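import Cfsg.Agent.H44.Palfy.Linear
import Cfsg.Agent.H81.Gallagher
import Cfsg.Agent.H84.InvariantAbove
import Cfsg.Agent.H84.TwoDegreesBasic
import Cfsg.Agent.Cores.PSolvable

/-!
Degrees of characters over a normal subgroup with a complement, stabilisers of linear characters, and the
faithful image of a group acting on a vector group.
-/

set_option autoImplicit false
set_option linter.style.haveILetI false
set_option linter.unusedSectionVars false

namespace Cfsg.Agent.H44.Palfy

open Cfsg MulAction Cfsg.Agent Cfsg.Agent.CharInduce Cfsg.Agent.CharBasic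

universe u v

variable {G : Type u} [Group G] [Finite G]

/-- Some irreducible degree is divisible by `a`. -/
def Deg (G : Type u) [Group G] (a : ℕ) : Prop :=
  ∃ χ : IrrCharacter G, a ∣ charDegree (χ : G → ℂ)

theorem apply_one (χ : IrrCharacter G) : (χ : G → ℂ) 1 = (charDegree (χ : G → ℂ) : ℂ) :=
  BlockBasic.apply_one_eq_charDegree χ

theorem Deg.of_surjective {H : Type v} [Group H] [Finite H] {a : ℕ} (f : G →* H) (hf : Function.Surjective f)
    (h : Deg H a) : Deg G a := by
  obtain ⟨χ, hχ⟩ := h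
  refine ⟨⟨_, CharInduce.IsIrr.comp χ.2 f hf⟩, ?_⟩
  show a ∣ charDegree (fun g => (χ : H → ℂ) (f g))
  rwa [H84.charDegree_of_eq (show (χ : H → ℂ) (f 1) = _ by rw [map_one]; exact apply_one χ)]

theorem Deg.quotient {a : ℕ} {N : Subgroup G} [N.Normal] (h : Deg (G ⧸ N) a) : Deg G a :=
  h.of_surjective _ (QuotientGroup.mk'_surjective N)

theorem normal_abelian_of_not_deg [Group.IsSolvable G] {a : ℕ} [Fact a.Prime] (h : ¬ Deg G a)
    (P : Sylow a G) : (P : Subgroup G).Normal ∧ IsMulCommutative (P : Subgroup G) := by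
  obtain ⟨h1, h2⟩ := H84.normal_abelian_sylow_of_degrees Cores.isPSolvable_of_isSolvable (fun χ hd => h ⟨χ, hd⟩) P
  exact ⟨h1, ⟨⟨fun a b => Subtype.ext (h2 a a.2 b b.2)⟩⟩⟩

theorem subsingleton_sylow_of_not_deg [Group.IsSolvable G] {a : ℕ} [Fact a.Prime] (h : ¬ Deg G a) :
    Subsingleton (Sylow a G) :=
  ⟨fun P Q => by
    haveI := Sylow.unique_of_normal P (normal_abelian_of_not_deg h P).1
    exact Subsingleton.elim P Q⟩

theorem not_deg_of_normal_abelian {a : ℕ} [Fact a.Prime] (P : Sylow a G) (hn : (P : Subgroup G).Normal)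
    (hab : IsMulCommutative (P : Subgroup G)) : ¬ Deg G a :=
  fun ⟨χ, hχ⟩ => H84.not_dvd_degree_of_normal_abelian_sylow P hn hab χ hχ

/-- The index of the inertia group times the degree divides some degree above. -/
theorem deg_above (N : Subgroup G) [N.Normal] {θ : N → ℂ} (hθ : IsIrrCharacter N θ) {d : ℕ} (hd : θ 1 = d) :
    Deg G ((inertia N θ).index * d) := by
  cases nonempty_fintype G
  haveI := Fintype.ofFinite N
  obtain ⟨χ, hχ⟩ := H84.exists_irr_above hθ
  refine ⟨χ, ?_⟩
  obtain ⟨e, he⟩ := classInner_isChar_nat (CharInduce.IsChar.res (IsIrr.isCharacter χ.2) N)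
    (IsIrr.isCharacter hθ)
  have h := clifford_degree N χ.2 hθ hχ
  rw [apply_one, he, hd] at h
  have h' : charDegree (χ : G → ℂ) = e * (inertia N θ).index * d := by exact_mod_cast h
  rw [h', mul_assoc]
  exact dvd_mul_left _ _

/-- Degrees above a character extending to its inertia group, for a complemented normal subgroup. -/
theorem deg_complement (N K : Subgroup G) [N.Normal] (hNK : N ⊓ K = ⊥) (hsup : N ⊔ K = ⊤) {θ : N → ℂ}
    (hθ : IsIrrCharacter N θ) {d : ℕ} (hd : θ 1 = d)
    (hext : ∃ η : inertia N θ → ℂ, IsIrrCharacter (inertia N θ) η ∧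
      ∀ (n : N) (h : (n : G) ∈ inertia N θ), η ⟨n, h⟩ = θ n) {a : ℕ}
    (ha : Deg ((inertia N θ).subgroupOf K : Subgroup K) a) : Deg G ((inertia N θ).index * d * a) := by
  classical
  cases nonempty_fintype G
  haveI := Fintype.ofFinite N
  set I := inertia N θ with hI
  obtain ⟨ψ, hψ⟩ := ha
  have hle : N ≤ I := le_inertia N (IsIrr.isClassFunction hθ)
  haveI := Fintype.ofFinite I
  haveI := Fintype.ofFinite (N.subgroupOf I)
  let f : (I.subgroupOf K : Subgroup K) →* I :=
    { toFun := fun k => ⟨((k : K) : G), k.2⟩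
      map_one' := rfl
      map_mul' := fun _ _ => rfl }
  let q := (QuotientGroup.mk' (N.subgroupOf I)).comp f
  have hinj : Function.Injective q := (injective_iff_map_eq_one q).mpr fun k hk => by
    have h1 : ((k : K) : G) ∈ N := Subgroup.mem_subgroupOf.mp ((QuotientGroup.eq_one_iff (f k)).mp hk)
    have h2 : ((k : K) : G) ∈ N ⊓ K := ⟨h1, (k : K).2⟩
    rw [hNK, Subgroup.mem_bot] at h2
    exact Subtype.ext (Subtype.ext h2)
  have hsurj : Function.Surjective q := fun x => by
    obtain ⟨i, rfl⟩ := QuotientGroup.mk'_surjective _ x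
    have hi : (i : G) ∈ N ⊔ K := hsup ▸ Subgroup.mem_top _
    obtain ⟨n, hn, k, hk, hnk⟩ := Subgroup.mem_sup_of_normal_left.mp hi
    have hkI : k ∈ I := by
      rw [show k = n⁻¹ * (i : G) by rw [← hnk]; group]
      exact I.mul_mem (I.inv_mem (hle hn)) i.2
    refine ⟨⟨⟨k, hk⟩, hkI⟩, (QuotientGroup.eq (s := N.subgroupOf I)).mpr ?_⟩
    rw [Subgroup.mem_subgroupOf]
    show k⁻¹ * (i : G) ∈ N
    rw [← hnk, ← mul_assoc]
    simpa using (inferInstance : N.Normal).conj_mem n hn k⁻¹
  let e := MulEquiv.ofBijective q ⟨hinj, hsurj⟩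
  let β : IrrCharacter (I ⧸ N.subgroupOf I) :=
    ⟨_, CharInduce.IsIrr.comp ψ.2 e.symm.toMonoidHom e.symm.surjective⟩
  obtain ⟨η, hη, hres⟩ := hext
  let iso := Subgroup.subgroupOfEquivOfLe hle
  have hη' : IsIrrCharacter (N.subgroupOf I) (fun n : N.subgroupOf I => η n) := by
    rw [show (fun n : N.subgroupOf I => η n) = (fun n => θ (iso n)) from funext fun n => hres (iso n) n.1.2]
    exact CharInduce.IsIrr.comp hθ iso.toMonoidHom iso.surjective
  have hirr := H81.isIrr_mul_inflate (N.subgroupOf I) hη hη' β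
  set φ : I → ℂ := fun g => η g * H81.inflate (N.subgroupOf I) β g with hφ
  have hβ1 : (β : I ⧸ N.subgroupOf I → ℂ) 1 = (charDegree (ψ : ↥(I.subgroupOf K) → ℂ) : ℂ) := by
    show (ψ : ↥(I.subgroupOf K) → ℂ) (e.symm 1) = _
    rw [map_one]
    exact apply_one ψ
  have hres' : resTo N hle φ = (charDegree (ψ : ↥(I.subgroupOf K) → ℂ) : ℂ) • θ := funext fun n => by
    show η ⟨n, hle n.2⟩ * (β : I ⧸ N.subgroupOf I → ℂ) ((⟨n, hle n.2⟩ : I) : I ⧸ N.subgroupOf I) = _
    rw [(QuotientGroup.eq_one_iff (N := N.subgroupOf I) (⟨(n : G), hle n.2⟩ : I)).mpr n.2, hβ1, hres,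
      Pi.smul_apply, smul_eq_mul, mul_comm]
  have hd0 : charDegree (ψ : ↥(I.subgroupOf K) → ℂ) ≠ 0 := fun h0 => by
    have := IsIrr.one_ne_zero ψ.2
    rw [apply_one, h0, Nat.cast_zero] at this
    exact this rfl
  have hne : classInner (resTo N hle φ) θ ≠ 0 := by
    rw [hres', classInner_smul_left, classInner_irr_self hθ, mul_one]
    exact_mod_cast hd0
  obtain ⟨hind, -, -⟩ := clifford_correspondence N hθ hle hirr hne
  refine ⟨⟨_, hind⟩, ?_⟩
  have hdeg : indFun I φ 1 = ((I.index * (charDegree (ψ : ↥(I.subgroupOf K) → ℂ) * d) : ℕ) : ℂ) := by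
    have h1 : φ 1 = (charDegree (ψ : ↥(I.subgroupOf K) → ℂ) : ℂ) * θ 1 := by
      have := congrFun hres' 1
      exact this
    rw [indFun_one, h1, hd]
    push_cast
    ring
  show _ ∣ charDegree (indFun I φ)
  rw [H84.charDegree_of_eq hdeg, mul_assoc]
  exact mul_dvd_mul_left _ (mul_comm d a ▸ mul_dvd_mul_right hψ d)

theorem index_subgroupOf_complement (N K I : Subgroup G) [N.Normal] (hsup : N ⊔ K = ⊤) (hle : N ≤ I) :
    (I.subgroupOf K).index = I.index := by
  haveI : Fintype G := Fintype.ofFinite G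
  have e : K ⧸ I.subgroupOf K ≃ G ⧸ I := Equiv.ofBijective
    (Quotient.map' (fun k : K => (k : G)) fun a b hab => by
      rw [QuotientGroup.leftRel_apply] at hab ⊢
      exact Subgroup.mem_subgroupOf.mp hab)
    ⟨fun a b => by
      induction a using QuotientGroup.induction_on with
      | H a => induction b using QuotientGroup.induction_on with
        | H b =>
          intro hab
          exact QuotientGroup.eq.mpr (Subgroup.mem_subgroupOf.mpr (QuotientGroup.eq.mp hab)),
    fun x => by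
      induction x using QuotientGroup.induction_on with
      | H g =>
        obtain ⟨n, hn, k, hk, rfl⟩ := Subgroup.mem_sup_of_normal_left.mp (hsup ▸ Subgroup.mem_top g)
        refine ⟨((⟨k, hk⟩ : K) : K ⧸ I.subgroupOf K), QuotientGroup.eq.mpr (hle ?_)⟩
        show k⁻¹ * (n * k) ∈ N
        simpa [mul_assoc] using (inferInstance : N.Normal).conj_mem n hn k⁻¹⟩
  exact Nat.card_congr e

/-- If `r` divides the degree of every character over `θ` and no degree is divisible by `r * b`, the stabiliser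
has index prime to `b` and one Sylow `b`-subgroup. -/
theorem stab_of_character [Group.IsSolvable G] (N K : Subgroup G) [N.Normal] (hNK : N ⊓ K = ⊥)
    (hsup : N ⊔ K = ⊤) {θ : N → ℂ} (hθ : IsIrrCharacter N θ) {d : ℕ} (hd : θ 1 = d)
    (hext : ∃ η : inertia N θ → ℂ, IsIrrCharacter (inertia N θ) η ∧
      ∀ (n : N) (h : (n : G) ∈ inertia N θ), η ⟨n, h⟩ = θ n)
    {r b : ℕ} (hr : r.Prime) [hb : Fact b.Prime] (hrb : r ≠ b) (hrd : r ∣ (inertia N θ).index * d)
    (hno : ¬ Deg G (r * b)) :
    ¬ b ∣ ((inertia N θ).subgroupOf K).index ∧ Subsingleton (Sylow b ((inertia N θ).subgroupOf K)) := by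
  have hcop : Nat.Coprime r b := (Nat.coprime_primes hr hb.out).mpr hrb
  have hle : N ≤ inertia N θ := le_inertia N (IsIrr.isClassFunction hθ)
  refine ⟨fun hbd => hno ?_, subsingleton_sylow_of_not_deg fun hdeg => hno ?_⟩
  · obtain ⟨χ, hχ⟩ := deg_above N hθ hd
    rw [index_subgroupOf_complement N K _ hsup hle] at hbd
    exact ⟨χ, (hcop.mul_dvd_of_dvd_of_dvd hrd (hbd.mul_right d)).trans hχ⟩
  · obtain ⟨χ, hχ⟩ := deg_complement N K hNK hsup hθ hd hext hdeg
    exact ⟨χ, (mul_dvd_mul_right hrd b).trans hχ⟩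

section UniqueFix

variable {K : Type u} [Group K] [Finite K] {V : Type v} [AddCommGroup V] [DistribMulAction K V] {s t : ℕ}

theorem uniqueFix_of_stabilizer [hs : Fact s.Prime]
    (h : ∀ w : V, w ≠ 0 → ¬ s ∣ (stabilizer K w).index ∧ Subsingleton (Sylow s (stabilizer K w))) :
    UniqueFix V s K := by
  intro w hw
  obtain ⟨hidx, hsub⟩ := h w hw
  obtain ⟨P⟩ := (inferInstance : Nonempty (Sylow s (stabilizer K w)))
  have hPm : IsPGroup s ((P : Subgroup (stabilizer K w)).map (stabilizer K w).subtype) := P.2.map _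
  have hP' : ¬ s ∣ ((P : Subgroup (stabilizer K w)).map (stabilizer K w).subtype).index := by
    rw [Subgroup.index_map_subtype]
    exact hs.out.not_dvd_mul P.not_dvd_index hidx
  refine ⟨hPm.toSylow hP', fun g hg => ?_, fun Q hQ => ?_⟩
  · obtain ⟨p, -, rfl⟩ : g ∈ (P : Subgroup (stabilizer K w)).map (stabilizer K w).subtype := hg
    exact p.2
  · have hQle : (Q : Subgroup K) ≤ stabilizer K w := fun g hg => hQ g hg
    have e : Q.subtype hQle = P := Subsingleton.elim _ _
    apply Sylow.ext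
    show (Q : Subgroup K) = (P : Subgroup (stabilizer K w)).map (stabilizer K w).subtype
    rw [← e, Sylow.coe_subtype, Subgroup.subgroupOf_map_subtype, inf_eq_left.mpr hQle]

/-- Linear groups, for a possibly unfaithful action. -/
theorem linear_image [Finite V] [Group.IsSolvable K] [Fact s.Prime] [Fact t.Prime] {ℓ n : ℕ} (hℓ : ℓ.Prime)
    (hE : ∀ w : V, ℓ • w = 0) (hcard : Nat.card V = ℓ ^ n) (hst : s ≠ t)
    (hs : UniqueFix V s K) (ht : UniqueFix V t K)
    (hs' : ∃ P : Sylow s K, ∃ g ∈ (P : Subgroup K), ∃ w : V, g • w ≠ w)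
    (ht' : ∃ P : Sylow t K, ∃ g ∈ (P : Subgroup K), ∃ w : V, g • w ≠ w) : Deg K (s * t) := by
  let f : K →* (AddMonoid.End V)ˣ := MonoidHom.toHomUnits (endo K V)
  haveI : Finite (AddMonoid.End V) := Finite.of_injective (fun c : V →+ V => (c : V → V)) DFunLike.coe_injective
  have hf : ∀ (g : K) (w : V), f.rangeRestrict g • w = g • w := fun g w => rfl
  haveI : FaithfulSMul f.range V := ⟨fun {a b} hab => Subtype.ext (Units.ext (AddMonoidHom.ext hab))⟩
  have hsurj : Function.Surjective f.rangeRestrict := f.rangeRestrict_surjective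
  haveI : Group.IsSolvable f.range := Group.isSolvable_of_surjective hsurj
  have huf : ∀ (r : ℕ) [Fact r.Prime], UniqueFix V r K → UniqueFix V r f.range := by
    intro r _ hr w hw
    obtain ⟨P, hP, huniq⟩ := hr w hw
    refine ⟨P.mapSurjective hsurj, ?_, fun R hR => ?_⟩
    · rintro _ ⟨g, hg, rfl⟩
      exact (hf g w).trans (hP g hg)
    · obtain ⟨P1, rfl⟩ := Sylow.mapSurjective_surjective hsurj r R
      rw [huniq P1 fun g hg => (hf g w).symm.trans (hR _ ⟨g, hg, rfl⟩)]
  have hdvd : ∀ (r : ℕ) [Fact r.Prime], (∃ P : Sylow r K, ∃ g ∈ (P : Subgroup K), ∃ w : V, g • w ≠ w) →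
      r ∣ Nat.card f.range := by
    rintro r _ ⟨P, g, hg, w, hw⟩
    have h1 : f.rangeRestrict g ≠ 1 := fun h1 => hw (by rw [← hf, h1, one_smul])
    obtain ⟨k, hk⟩ := P.2 ⟨g, hg⟩
    have h2 : orderOf (f.rangeRestrict g) ∣ r ^ k := orderOf_dvd_of_pow_eq_one (by
      rw [← map_pow, show g ^ r ^ k = 1 from congrArg Subtype.val hk, map_one])
    obtain ⟨j, -, hj⟩ := (Nat.dvd_prime_pow Fact.out).mp h2
    refine dvd_trans ?_ (orderOf_dvd_natCard (f.rangeRestrict g))
    rw [hj]
    exact dvd_pow_self r fun h0 => h1 (orderOf_eq_one_iff.mp (by rw [hj, h0, pow_zero]))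
  obtain ⟨χ, hχ⟩ := linear_main hℓ hE hcard hst (hdvd s hs') (hdvd t ht') (huf s hs) (huf t ht)
  exact Deg.of_surjective f.rangeRestrict hsurj ⟨χ, hχ⟩

end UniqueFix

/-- Linear characters of a normal subgroup, written additively. -/
def Lin (N : Subgroup G) : Type u := Additive (N →* ℂˣ)

namespace Lin

variable {N : Subgroup G}

noncomputable instance : AddCommGroup (Lin N) := inferInstanceAs (AddCommGroup (Additive (N →* ℂˣ)))

instance : Finite (Lin N) :=
  haveI : Finite (N →* ℂˣ) := H84.finite_hom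
  inferInstanceAs (Finite (Additive (N →* ℂˣ)))

/-- The underlying homomorphism. -/
def hom (v : Lin N) : N →* ℂˣ := Additive.toMul v

/-- The underlying function. -/
def fn (v : Lin N) : N → ℂ := fun n => (v.hom n : ℂ)

theorem ext {v w : Lin N} (h : ∀ n, v.hom n = w.hom n) : v = w := MonoidHom.ext h

@[simp] theorem hom_zero (n : N) : (0 : Lin N).hom n = 1 := rfl

@[simp] theorem hom_add (v w : Lin N) (n : N) : (v + w).hom n = v.hom n * w.hom n := rfl

@[simp] theorem hom_neg (v : Lin N) (n : N) : (-v).hom n = (v.hom n)⁻¹ := rfl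

theorem hom_nsmul (k : ℕ) (v : Lin N) (n : N) : (k • v).hom n = v.hom n ^ k := rfl

variable [N.Normal]

instance : DistribMulAction G (Lin N) where
  smul g v := Additive.ofMul (v.hom.comp (MulAut.conjNormal g⁻¹).toMonoidHom)
  one_smul v := ext fun n => congrArg v.hom (Subtype.ext (by simp))
  mul_smul a b v := ext fun n => congrArg v.hom (Subtype.ext (by simp [mul_assoc]))
  smul_zero g := ext fun n => rfl
  smul_add g v w := ext fun n => rfl

theorem hom_smul (g : G) (v : Lin N) (n : N) :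
    (g • v).hom n = v.hom ⟨g⁻¹ * n * g, by simpa using (inferInstance : N.Normal).conj_mem _ n.2 g⁻¹⟩ :=
  congrArg v.hom (Subtype.ext (by simp [MulAut.conjNormal_apply]))

theorem stabilizer_eq (v : Lin N) : stabilizer G v = inertia N v.fn := by
  ext g
  have key : g • v = v ↔ g⁻¹ ∈ inertia N v.fn := by
    rw [mem_inertia]
    constructor
    · intro h
      funext n
      show (v.hom ⟨g⁻¹ * n * g⁻¹⁻¹, _⟩ : ℂ) = v.hom n
      conv_rhs => rw [← h, hom_smul]
      simp only [inv_inv]
    · intro h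
      refine ext fun n => Units.ext ?_
      rw [hom_smul]
      have := congrFun h n
      simp only [conjFun, fn, inv_inv] at this
      exact this
  rw [mem_stabilizer_iff, key, inv_mem_iff]

theorem stabilizer_subgroup_eq (v : Lin N) (K : Subgroup G) :
    stabilizer K v = (inertia N v.fn).subgroupOf K := by
  rw [← stabilizer_eq]
  ext k
  rfl

theorem fn_isIrr (v : Lin N) : IsIrrCharacter N v.fn := by
  haveI := Fintype.ofFinite N
  exact isIrrCharacter_hom v.hom

theorem fn_one (v : Lin N) : v.fn 1 = ((1 : ℕ) : ℂ) := by simp [fn]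

theorem card_eq (hab : IsMulCommutative N) : Nat.card (Lin N) = Nat.card N := by
  show Nat.card (N →* ℂˣ) = _
  rw [H84.card_hom, show commutator N = ⊥ from ?_, Subgroup.index_bot]
  rw [commutator_def, Subgroup.commutator_eq_bot_iff_le_centralizer]
  intro a _
  rw [Subgroup.mem_centralizer_iff]
  exact fun b _ => hab.is_comm.comm b a

/-- A linear character of an abelian complemented normal subgroup extends to its stabiliser. -/
theorem exists_extension (K : Subgroup G) (hNK : N ⊓ K = ⊥) (hsup : N ⊔ K = ⊤) (v : Lin N) :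
    ∃ η : inertia N v.fn → ℂ, IsIrrCharacter (inertia N v.fn) η ∧
      ∀ (n : N) (h : (n : G) ∈ inertia N v.fn), η ⟨n, h⟩ = v.fn n := by
  cases nonempty_fintype G
  haveI := Fintype.ofFinite (inertia N v.fn)
  have hdec : ∀ g : G, ∃ n : N, ∃ k ∈ K, g = n * k := fun g => by
    obtain ⟨n, hn, k, hk, rfl⟩ := Subgroup.mem_sup_of_normal_left.mp (hsup ▸ Subgroup.mem_top g)
    exact ⟨⟨n, hn⟩, k, hk, rfl⟩
  choose π κ hκ hπ using hdec
  have huniq : ∀ (g : G) (n : N) (k : G), k ∈ K → g = n * k → π g = n := fun g n k hk hg => by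
    have h1 : ((n : G))⁻¹ * π g ∈ N ⊓ K := by
      refine ⟨N.mul_mem (N.inv_mem n.2) (π g).2, ?_⟩
      have : ((n : G))⁻¹ * π g = k * (κ g)⁻¹ := by
        rw [eq_mul_inv_iff_mul_eq, mul_assoc, ← hπ g, hg, inv_mul_cancel_left]
      rw [this]
      exact K.mul_mem hk (K.inv_mem (hκ g))
    rw [hNK, Subgroup.mem_bot, inv_mul_eq_one] at h1
    exact Subtype.ext h1.symm
  let f : inertia N v.fn →* ℂˣ :=
    { toFun := fun g => v.hom (π g)
      map_one' := by
        show v.hom (π 1) = 1
        rw [huniq 1 1 1 K.one_mem (by simp), map_one]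
      map_mul' := fun a b => by
        show v.hom (π (a * b : inertia N v.fn)) = v.hom (π a) * v.hom (π b)
        have hk : κ a ∈ inertia N v.fn := by
          rw [show κ a = ((π a : G))⁻¹ * a by rw [eq_inv_mul_iff_mul_eq]; exact (hπ a).symm]
          exact mul_mem (inv_mem (le_inertia N (IsIrr.isClassFunction (fn_isIrr v)) (π a).2)) a.2
        let c : N := ⟨κ a * π b * (κ a)⁻¹, (inferInstance : N.Normal).conj_mem _ (π b).2 _⟩
        rw [huniq ((a * b : inertia N v.fn) : G) (π a * c) (κ a * κ b) (K.mul_mem (hκ a) (hκ b)) (by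
          show (a : G) * b = (π a : G) * (κ a * π b * (κ a)⁻¹) * (κ a * κ b)
          conv_lhs => rw [hπ a, hπ b]
          group), map_mul]
        congr 1
        exact Units.ext (congrFun ((mem_inertia N).mp hk) (π b)) }
  exact ⟨fun g => (f g : ℂ), isIrrCharacter_hom f, fun n h => by
    show (v.hom (π (n : G)) : ℂ) = v.hom n
    rw [huniq n n 1 K.one_mem (by simp)]⟩

end Lin

end Cfsg.Agent.H44.Palfy
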