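import Cfsg.Agent.H44.Palfy.Stable

/-!
In the second case: the linear characters of the normal Sylow subgroup, and the counting contradiction.
-/

set_option autoImplicit false
set_option linter.style.haveILetI false
set_option linter.unusedSectionVars false

namespace Cfsg.Agent.H44.Palfy

open scoped commutatorElement
open Cfsg MulAction Cfsg.Agent Cfsg.Agent.CharInduce Cfsg.Agent.CharBasic

universe u

variable {G : Type u} [Group G] [Finite G] {r s t : ℕ} {R M K : Subgroup G} [R.Normal] [M.Normal]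

theorem commutator_map_subtype (H : Subgroup G) : (commutator H).map H.subtype = ⁅H, H⁆ :=
  Subgroup.map_subtype_commutator H

/-- An element fixing all linear characters of `R` moves `R` inside `M` only. -/
theorem NormalCase.mem_of_fix (h : NormalCase r s t R M K) {g : G} (hg : ∀ α : Lin R, g • α = α) (x : R) :
    g⁻¹ * x * g * (x : G)⁻¹ ∈ M := by
  have hmem : g⁻¹ * x * g ∈ R := by simpa using (inferInstance : R.Normal).conj_mem _ x.2 g⁻¹
  have h1 : (⟨g⁻¹ * x * g, hmem⟩ * x⁻¹ : R) ∈ commutator R := by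
    by_contra hc
    obtain ⟨l, hl⟩ := H84.exists_hom_apply_ne_one hc
    refine hl ?_
    rw [map_mul, map_inv, mul_inv_eq_one]
    have h2 : (g • (show Lin R from Additive.ofMul l)).hom x = l x := by rw [hg]; rfl
    rw [Lin.hom_smul] at h2
    exact h2
  rw [← h.hRM, ← commutator_map_subtype]
  exact ⟨_, h1, rfl⟩

/-- A non-trivial coprime subgroup moves a linear character. -/
theorem NormalCase.exists_moved [Group.IsSolvable G] [hr : Fact r.Prime] (h : NormalCase r s t R M K)
    (Q : Subgroup K) (hQ : Q ≠ ⊥) : ∃ α : Lin R, ∃ g ∈ Q, g • α ≠ α := by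
  by_contra hc
  push Not at hc
  set Q' := Q.map K.subtype with hQ'
  have hQK : Q' ≤ K := Subgroup.map_subtype_le _
  have hcop : (Nat.card Q').Coprime (Nat.card R) := by
    obtain ⟨a, ha⟩ := IsPGroup.iff_card.mp h.hRp
    rw [ha]
    refine (Nat.Coprime.pow_left a (hr.out.coprime_iff_not_dvd.mpr fun hd => h.hRi ?_)).symm
    rw [h.isComplement.symm.index_eq_card]
    exact hd.trans (Subgroup.card_dvd_of_le hQK)
  have hfix : ∀ g ∈ Q', ∀ α : Lin R, g • α = α := by
    rintro _ ⟨g, hg, rfl⟩ α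
    exact hc α g hg
  have hRQ : ⁅R, Q'⁆ ≤ M := Subgroup.commutator_le.mpr fun x hx g hg => by
    have h1 := h.mem_of_fix (hfix g⁻¹ (Q'.inv_mem hg) ·) ⟨x⁻¹, R.inv_mem hx⟩
    have h2 : ⁅x, g⁆ = x * (g⁻¹⁻¹ * x⁻¹ * g⁻¹ * (x⁻¹)⁻¹) * x⁻¹ := by
      rw [commutatorElement_def]; group
    rw [h2]
    exact (inferInstance : M.Normal).conj_mem _ h1 x
  have hMQ : M ≤ Subgroup.centralizer (Q' : Set G) :=
    h.hRM ▸ commutator_le_centralizer_of_le h.hMR h.hMc hRQ hcop
  have h3 := Coprime.le_centralizer_of_commutator_le_centralizer (A := Q') (K := R)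
    (by rw [Subgroup.normalizer_eq_top]; exact le_top) hcop (hRQ.trans hMQ)
  refine hQ ((Subgroup.map_eq_bot_iff_of_injective _ K.subtype_injective).mp (le_bot_iff.mp ?_))
  exact h.hfaith ▸ le_inf hQK h3

/-- The contradiction when `S` centralises `M` and is normal, and `T` is not normal. -/
theorem NormalCase.false_of_not_normal [Group.IsSolvable G] [hr : Fact r.Prime] [hs : Fact s.Prime]
    [ht : Fact t.Prime] (h : NormalCase r s t R M K) (hrs : r ≠ s) (hst : s ≠ t)
    (hno1 : ¬ Deg G (r * s)) (hno3 : ¬ Deg G (s * t))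
    (S : Sylow s K) [(S : Subgroup K).Normal] (hS : (S : Subgroup K) ≠ ⊥)
    (hMt : UniqueFix (Lin M) t K) (hT : ¬ Subsingleton (Sylow t K)) : False := by
  classical
  cases nonempty_fintype G
  haveI := Fintype.ofFinite R
  haveI := Fintype.ofFinite (S : Subgroup K)
  obtain ⟨T⟩ := (inferInstance : Nonempty (Sylow t K))
  set k := Nat.card (Sylow t K)
  have hk : 2 ≤ k := by
    haveI := not_subsingleton_iff_nontrivial.mp hT
    exact Finite.one_lt_card
  obtain ⟨n, hn⟩ := IsPGroup.iff_card.mp (h.hRp.to_le h.hMR : IsPGroup r M)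
  have hnpos : 0 < n := Nat.pos_of_ne_zero fun h0 => h.hMne (Subgroup.card_eq_one.mp (by rw [hn, h0, pow_zero]))
  have heqM := card_sylow_mul hMt T
  have hVM : Nat.card (Lin M) = r ^ n := by rw [Lin.card_eq h.commM, hn]
  obtain ⟨a, -, ha⟩ := exists_card_fixed_pow hr.out hVM (fixSet (Lin M) (T : Subgroup K))
  rw [ha, hVM] at heqM
  have ha0 : 0 < a := Nat.pos_of_ne_zero fun h0 => by
    rw [h0, pow_zero, Nat.sub_self, mul_zero] at heqM
    have := Nat.one_lt_pow hnpos.ne' hr.out.one_lt
    omega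
  -- the linear characters
  obtain ⟨cR, hcR⟩ := IsPGroup.iff_card.mp h.hRp
  have hcardLin : Nat.card (Lin R) * Nat.card M = Nat.card R := by
    show Nat.card (R →* ℂˣ) * _ = _
    rw [H84.card_hom, show Nat.card M = Nat.card (commutator R) by
      rw [← h.hRM, ← commutator_map_subtype, Subgroup.card_map_of_injective R.subtype_injective],
      mul_comm, Subgroup.card_mul_index]
  have hLindvd : Nat.card (Lin R) ∣ r ^ cR := hcR ▸ hcardLin ▸ dvd_mul_right _ _
  let gen : Set (Lin R) := {β | ∃ g ∈ (S : Subgroup K), ∃ α : Lin R, β = g • α - α}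
  let D : AddSubgroup (Lin R) := AddSubgroup.closure gen
  have hgen : ∀ g ∈ (S : Subgroup K), ∀ α : Lin R, g • α - α ∈ D := fun g hg α =>
    AddSubgroup.subset_closure ⟨g, hg, α, rfl⟩
  have hDinv : ∀ (k : K) (β : Lin R), β ∈ D → k • β ∈ D := by
    intro k β hβ
    induction hβ using AddSubgroup.closure_induction with
    | mem β hb =>
      obtain ⟨g, hg, α, rfl⟩ := hb
      have h1 := hgen (k * g * k⁻¹) ((inferInstance : (S : Subgroup K).Normal).conj_mem g hg k) (k • α)
      rw [smul_sub]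
      rw [mul_smul, mul_smul, inv_smul_smul] at h1
      exact h1
    | zero => rw [smul_zero]; exact D.zero_mem
    | add a b _ _ h1 h2 => rw [smul_add]; exact D.add_mem h1 h2
    | neg a _ h1 => rw [smul_neg]; exact D.neg_mem h1
  letI : DistribMulAction K D :=
    { smul := fun k β => ⟨k • (β : Lin R), hDinv k β β.2⟩
      one_smul := fun β => Subtype.ext (one_smul K (β : Lin R))
      mul_smul := fun a b β => Subtype.ext (mul_smul a b (β : Lin R))
      smul_zero := fun k => Subtype.ext (smul_zero k)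
      smul_add := fun k a b => Subtype.ext (smul_add k (a : Lin R) b) }
  have hcopS : (Nat.card (S : Subgroup K)).Coprime (Nat.card (Lin R)) := by
    obtain ⟨e, he⟩ := IsPGroup.iff_card.mp S.2
    refine Nat.Coprime.coprime_dvd_right hLindvd ?_
    rw [he]
    exact Nat.Coprime.pow _ _ ((Nat.coprime_primes hs.out hr.out).mpr (Ne.symm hrs))
  have hDfix : ∀ β ∈ D, (∀ g ∈ (S : Subgroup K), g • β = β) → β = 0 := by
    intro β hβ hfix
    let Nm : Lin R →+ Lin R :=
      { toFun := fun β => ∑ g : (S : Subgroup K), (g : K) • β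
        map_zero' := by simp
        map_add' := fun a b => by simp [Finset.sum_add_distrib] }
    have hNg : D ≤ Nm.ker := (AddSubgroup.closure_le _).mpr fun β hb => by
      obtain ⟨g, hg, α, rfl⟩ := hb
      show Nm (g • α - α) = 0
      rw [map_sub, sub_eq_zero]
      show ∑ g' : (S : Subgroup K), (g' : K) • g • α = ∑ g' : (S : Subgroup K), (g' : K) • α
      refine Fintype.sum_equiv (Equiv.mulRight (⟨g, hg⟩ : (S : Subgroup K))) _ _ fun g' => ?_
      simp [mul_smul]
    have h1 : Nm β = 0 := hNg hβ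
    have h2 : Nm β = Nat.card (S : Subgroup K) • β := by
      show ∑ g : (S : Subgroup K), (g : K) • β = _
      rw [Finset.sum_congr rfl (fun (g : (S : Subgroup K)) _ => hfix g g.2), Finset.sum_const, Finset.card_univ,
        Nat.card_eq_fintype_card]
    rw [h2] at h1
    exact AddMonoid.addOrderOf_eq_one_iff.mp (Nat.eq_one_of_dvd_coprimes hcopS
      (addOrderOf_dvd_of_nsmul_eq_zero h1) (addOrderOf_dvd_natCard β))
  have hDne : ∃ β : D, β ≠ 0 := by
    obtain ⟨α, g, hg, hne⟩ := h.exists_moved (S : Subgroup K) hS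
    exact ⟨⟨g • α - α, hgen g hg α⟩, fun h0 => hne (sub_eq_zero.mp (congrArg Subtype.val h0))⟩
  have hDu : UniqueFix D t K := by
    refine uniqueFix_of_stabilizer fun β hβ => ?_
    have hst' : stabilizer K β = (inertia R (β : Lin R).fn).subgroupOf K := by
      rw [← Lin.stabilizer_subgroup_eq]
      ext g
      exact ⟨fun hg => congrArg Subtype.val hg, fun hg => Subtype.ext hg⟩
    rw [hst']
    refine stab_of_character R K h.hRK h.hsup (Lin.fn_isIrr _) (Lin.fn_one _)
      (Lin.exists_extension K h.hRK h.hsup _) hs.out hst ?_ hno3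
    rw [mul_one, ← index_subgroupOf_complement R K _ h.hsup (le_inertia R (IsIrr.isClassFunction (Lin.fn_isIrr _))),
      ← Lin.stabilizer_subgroup_eq]
    by_contra hnd
    refine hβ (Subtype.ext (hDfix _ β.2 fun g hg => ?_))
    obtain ⟨Q⟩ := (inferInstance : Nonempty (Sylow s (stabilizer K (β : Lin R))))
    have hQm : IsPGroup s ((Q : Subgroup _).map (stabilizer K (β : Lin R)).subtype) := Q.2.map _
    have hQi : ¬ s ∣ ((Q : Subgroup _).map (stabilizer K (β : Lin R)).subtype).index := by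
      rw [Subgroup.index_map_subtype]
      exact hs.out.not_dvd_mul Q.not_dvd_index hnd
    haveI := Sylow.unique_of_normal S inferInstance
    have e : hQm.toSylow hQi = S := Subsingleton.elim _ _
    have hg' : g ∈ ((hQm.toSylow hQi : Sylow s K) : Subgroup K) := by rw [e]; exact hg
    obtain ⟨q, -, rfl⟩ : g ∈ (Q : Subgroup (stabilizer K (β : Lin R))).map (stabilizer K (β : Lin R)).subtype := hg'
    exact q.2
  have hDdvd : Nat.card D ∣ r ^ cR := D.card_addSubgroup_dvd_card.trans hLindvd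
  obtain ⟨c, -, hc⟩ := (Nat.dvd_prime_pow hr.out).mp hDdvd
  have heqD := card_sylow_mul hDu T
  obtain ⟨b, -, hb⟩ := exists_card_fixed_pow hr.out hc (fixSet D (T : Subgroup K))
  rw [hb, hc] at heqD
  have hc0 : 0 < c := Nat.pos_of_ne_zero fun h0 => by
    obtain ⟨β, hβ⟩ := hDne
    rw [h0, pow_zero] at hc
    haveI := (Nat.card_eq_one_iff_unique.mp hc).1
    exact hβ (Subsingleton.elim _ _)
  have hb0 : 0 < b := Nat.pos_of_ne_zero fun h0 => by
    rw [h0, pow_zero, Nat.sub_self, mul_zero] at heqD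
    have := Nat.one_lt_pow hc0.ne' hr.out.one_lt
    omega
  have hcn : c = n := exponent_eq hr.out.two_le hk hb0 ha0 heqD heqM
  -- evaluation at the elements of `R`
  let ev : R →* (Multiplicative D →* ℂˣ) :=
    { toFun := fun x =>
        { toFun := fun β => ((Multiplicative.toAdd β : D) : Lin R).hom x
          map_one' := rfl
          map_mul' := fun _ _ => rfl }
      map_one' := MonoidHom.ext fun β => map_one ((Multiplicative.toAdd β : D) : Lin R).hom
      map_mul' := fun x y => MonoidHom.ext fun β => map_mul ((Multiplicative.toAdd β : D) : Lin R).hom x y }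
  have hA : ∀ x : R, x ∈ ev.ker ↔ ∀ β ∈ D, β.hom x = 1 := fun x => by
    rw [MonoidHom.mem_ker]
    exact ⟨fun h0 β hβ => DFunLike.congr_fun h0 (Multiplicative.ofAdd ⟨β, hβ⟩),
      fun h0 => MonoidHom.ext fun β => h0 _ (Multiplicative.toAdd β).2⟩
  have hAidx : ev.ker.index ≤ r ^ n := by
    haveI : Finite (Multiplicative D →* ℂˣ) := H84.finite_hom
    rw [Subgroup.index_ker, ← hcn, ← hc]
    refine (Subgroup.card_le_card_group _).trans (le_of_eq ?_)
    haveI : NeZero (Monoid.exponent (Multiplicative D)) := ⟨Monoid.exponent_ne_zero_of_finite⟩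
    rw [CommGroup.card_monoidHom_of_hasEnoughRootsOfUnity]
    rfl
  -- non-linear characters vanish outside the kernel
  have hvanish : ∀ θ : IrrCharacter R, charDegree (θ : R → ℂ) ≠ 1 → ∀ x : R, x ∉ ev.ker →
      (θ : R → ℂ) x = 0 := by
    intro θ hθ1 x hx
    by_contra hx0
    have hfixθ : ∀ (φ : R → ℂ), IsIrrCharacter R φ → φ 1 = (θ : R → ℂ) 1 → ∀ g ∈ (S : Subgroup K),
        ∀ y : R, ∀ hy : (g : G) * y * (g : G)⁻¹ ∈ R, φ ⟨_, hy⟩ = φ y := by
      intro φ hφ hφ1 g hg y hy
      obtain ⟨hidx, -⟩ := h.stab_nonlinear hφ (hφ1.trans (apply_one θ)) hθ1 hrs hno1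
      obtain ⟨Q⟩ := (inferInstance : Nonempty (Sylow s ((inertia R φ).subgroupOf K)))
      have hQm : IsPGroup s ((Q : Subgroup _).map ((inertia R φ).subgroupOf K).subtype) := Q.2.map _
      have hQi : ¬ s ∣ ((Q : Subgroup _).map ((inertia R φ).subgroupOf K).subtype).index := by
        rw [Subgroup.index_map_subtype]
        exact hs.out.not_dvd_mul Q.not_dvd_index hidx
      haveI := Sylow.unique_of_normal S inferInstance
      have e : hQm.toSylow hQi = S := Subsingleton.elim _ _
      have hg' : g ∈ ((hQm.toSylow hQi : Sylow s K) : Subgroup K) := by rw [e]; exact hg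
      obtain ⟨q, -, rfl⟩ : g ∈ (Q : Subgroup ((inertia R φ).subgroupOf K)).map ((inertia R φ).subgroupOf K).subtype := hg'
      exact congrFun ((mem_inertia R).mp q.2) y
    refine hx ((hA x).mpr fun β hβ => ?_)
    induction hβ using AddSubgroup.closure_induction with
    | zero => rfl
    | add a b _ _ h1 h2 => rw [Lin.hom_add, h1, h2, mul_one]
    | neg a _ h1 => rw [Lin.hom_neg, h1, inv_one]
    | mem β hβ =>
      obtain ⟨g, hg, α, rfl⟩ := hβ
      rw [sub_eq_add_neg, Lin.hom_add, Lin.hom_neg, mul_inv_eq_one]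
      have hg' : g⁻¹ ∈ (S : Subgroup K) := (S : Subgroup K).inv_mem hg
      have hy : ((g⁻¹ : K) : G) * x * ((g⁻¹ : K) : G)⁻¹ ∈ R := (inferInstance : R.Normal).conj_mem _ x.2 _
      have h1 := hfixθ θ θ.2 rfl g⁻¹ hg' x hy
      have h2 := hfixθ _ (isIrr_hom_mul θ.2 α.hom) (by simp) g⁻¹ hg' x hy
      simp only [h1] at h2
      have h3 := Units.ext (mul_right_cancel₀ hx0 h2)
      refine Eq.trans ?_ h3
      show ((g : G) • α).hom x = _
      rw [Lin.hom_smul]
      exact congrArg α.hom (Subtype.ext (by simp))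
  -- centralisers of the elements outside the kernel
  have hcent : ∀ x : R, x ∉ ev.ker → Nat.card (Subgroup.centralizer ({x} : Set R)) = Nat.card (Lin R) := by
    intro x hx
    have h1 := second_orthogonality_self x
    let toIrr : Lin R → IrrCharacter R := fun α => ⟨α.fn, Lin.fn_isIrr α⟩
    have hinj : Function.Injective toIrr := fun a b hab =>
      Lin.ext fun y => Units.ext (congrFun (congrArg Subtype.val hab) y)
    haveI := Fintype.ofFinite (Lin R)
    rw [← Finset.sum_subset (Finset.subset_univ (Finset.univ.image toIrr)) (fun θ _ hθ => by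
      rw [hvanish θ (fun hd => hθ ?_) x hx, zero_mul]
      have hone : (θ : R → ℂ) 1 = 1 := by rw [apply_one, hd, Nat.cast_one]
      obtain ⟨l, hl⟩ := IsChar.exists_hom_of_degree_one (IsIrr.isCharacter θ.2) hone
      exact Finset.mem_image.mpr ⟨Additive.ofMul l, Finset.mem_univ _, Subtype.ext (funext fun y => (hl y).symm)⟩),
      Finset.sum_image (fun a _ b _ hab => hinj hab)] at h1
    rw [Finset.sum_congr rfl (fun α _ => show (toIrr α : R → ℂ) x * (starRingEnd ℂ) ((toIrr α : R → ℂ) x) = 1 from by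
      show (α.hom x : ℂ) * (starRingEnd ℂ) (α.hom x : ℂ) = 1
      rw [Complex.mul_conj', norm_hom]; simp), Finset.sum_const, Finset.card_univ, nsmul_eq_mul, mul_one,
      ← Nat.card_eq_fintype_card] at h1
    exact_mod_cast h1.symm
  -- an element outside the kernel centralising it
  obtain ⟨x0, g, hg, hmem, hx⟩ : ∃ (x0 : R) (g : K), g ∈ (S : Subgroup K) ∧
      ∃ hmem : (g : G)⁻¹ * x0 * g ∈ R, (⟨_, hmem⟩ * x0⁻¹ : R) ∉ ev.ker := by
    obtain ⟨β, hβ⟩ := hDne
    by_contra hc'
    push Not at hc'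
    refine hβ (Subtype.ext (hDfix _ β.2 fun g hg => Lin.ext fun y => ?_))
    show ((g : G) • (β : Lin R)).hom y = _
    have hmem : (g : G)⁻¹ * y * g ∈ R := by simpa using (inferInstance : R.Normal).conj_mem _ y.2 (g : G)⁻¹
    have h1 := (hA _).mp (hc' y g hg hmem) β β.2
    rw [map_mul, map_inv, mul_inv_eq_one] at h1
    rw [Lin.hom_smul]
    exact h1
  set x : R := ⟨_, hmem⟩ * x0⁻¹ with hxdef
  have hMcen : ∀ m ∈ M, ∀ y ∈ R, y * m = m * y := fun m hm y hy =>
    Subgroup.mem_centralizer_iff.mp (h.hMc hm) y hy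
  have hSM : ∀ m ∈ M, (g : G)⁻¹ * m * g = m := by
    intro m hm
    have hmg : (g : G) * m = m * g := Lin.commute_of_fix h.commM (fun w => ?_) hm
    · rw [mul_assoc, ← hmg, inv_mul_cancel_left]
    rcases eq_or_ne w 0 with rfl | hw
    · exact smul_zero _
    · obtain ⟨θ, d, hθ, hd, hd1, hst'⟩ := h.exists_above w hw
      obtain ⟨hidx, -⟩ := h.stab_nonlinear hθ hd hd1 hrs hno1
      rw [← hst'] at hidx
      obtain ⟨Q⟩ := (inferInstance : Nonempty (Sylow s (stabilizer K w)))
      have hQm : IsPGroup s ((Q : Subgroup _).map (stabilizer K w).subtype) := Q.2.map _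
      have hQi : ¬ s ∣ ((Q : Subgroup _).map (stabilizer K w).subtype).index := by
        rw [Subgroup.index_map_subtype]
        exact hs.out.not_dvd_mul Q.not_dvd_index hidx
      haveI := Sylow.unique_of_normal S inferInstance
      have e : hQm.toSylow hQi = S := Subsingleton.elim _ _
      have hg' : g ∈ ((hQm.toSylow hQi : Sylow s K) : Subgroup K) := by rw [e]; exact hg
      obtain ⟨q, -, rfl⟩ : g ∈ (Q : Subgroup (stabilizer K w)).map (stabilizer K w).subtype := hg'
      exact q.2
  have hAC : ev.ker ≤ Subgroup.centralizer ({x} : Set R) := by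
    intro a ha
    have hm : (g : G)⁻¹ * a * g * (a : G)⁻¹ ∈ M := by
      have hmem' : (g : G)⁻¹ * a * g ∈ R := by simpa using (inferInstance : R.Normal).conj_mem _ a.2 (g : G)⁻¹
      have h1 : (⟨_, hmem'⟩ * a⁻¹ : R) ∈ commutator R := by
        by_contra hcc
        obtain ⟨l, hl⟩ := H84.exists_hom_apply_ne_one hcc
        have h2 := (hA a).mp ha _ (hgen g hg (show Lin R from Additive.ofMul l))
        rw [sub_eq_add_neg, Lin.hom_add, Lin.hom_neg, mul_inv_eq_one] at h2
        refine hl ?_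
        rw [map_mul, map_inv, mul_inv_eq_one]
        refine Eq.trans ?_ h2
        show _ = ((g : G) • (show Lin R from Additive.ofMul l)).hom a
        rw [Lin.hom_smul]
        rfl
      rw [← h.hRM, ← commutator_map_subtype]
      exact ⟨_, h1, rfl⟩
    rw [Subgroup.mem_centralizer_singleton_iff]
    refine Subtype.ext ?_
    show (a : G) * ((g : G)⁻¹ * x0 * g * (x0 : G)⁻¹) = (g : G)⁻¹ * x0 * g * (x0 : G)⁻¹ * a
    set m := (g : G)⁻¹ * a * g * (a : G)⁻¹ with hmdef
    set u := (g : G)⁻¹ * x0 * g with hu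
    set c := (x0 : G) * a * (x0 : G)⁻¹ * (a : G)⁻¹ with hc'
    have hcM : c ∈ M := by
      rw [hc', ← h.hRM]
      exact Subgroup.commutator_mem_commutator x0.2 a.2
    have hga : (g : G)⁻¹ * a * g = m * a := by rw [hmdef, inv_mul_cancel_right]
    have h1 : u * (m * a) * u⁻¹ = c * (m * a) := by
      rw [← hga, hu]
      calc (g : G)⁻¹ * x0 * g * ((g : G)⁻¹ * a * g) * ((g : G)⁻¹ * x0 * g)⁻¹
          = (g : G)⁻¹ * (c * a) * g := by rw [hc']; group
        _ = ((g : G)⁻¹ * c * g) * ((g : G)⁻¹ * a * g) := by group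
        _ = _ := by rw [hSM c hcM]
    have hum : u * m = m * u := hMcen m hm u hmem
    have h2 : u * (a : G) * u⁻¹ = c * a := by
      have h3 : m * (u * (a : G) * u⁻¹) = m * (c * a) := by
        calc m * (u * (a : G) * u⁻¹) = (m * u) * a * u⁻¹ := by simp only [mul_assoc]
          _ = u * (m * a) * u⁻¹ := by rw [← hum, mul_assoc u m]
          _ = c * (m * a) := h1
          _ = (c * m) * a := (mul_assoc c m _).symm
          _ = (m * c) * a := by rw [hMcen m hm c (h.hMR hcM)]
          _ = m * (c * a) := mul_assoc m c _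
      exact mul_left_cancel h3
    have h4 : (x0 : G)⁻¹ * a * x0 = c⁻¹ * a := by
      have h5 : (x0 : G) * (c⁻¹ * a) * (x0 : G)⁻¹ = a := by
        rw [← mul_assoc, hMcen c⁻¹ (M.inv_mem hcM) x0 x0.2, mul_assoc c⁻¹ (x0 : G), mul_assoc c⁻¹,
          show (x0 : G) * a * (x0 : G)⁻¹ = c * a by rw [hc', inv_mul_cancel_right], inv_mul_cancel_left]
      conv_lhs => rw [← h5]
      group
    have h6 : u * (x0 : G)⁻¹ * a * (u * (x0 : G)⁻¹)⁻¹ = a := by
      calc u * (x0 : G)⁻¹ * a * (u * (x0 : G)⁻¹)⁻¹ = u * ((x0 : G)⁻¹ * a * x0) * u⁻¹ := by group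
        _ = (u * c⁻¹) * a * u⁻¹ := by rw [h4, ← mul_assoc]
        _ = c⁻¹ * (u * a * u⁻¹) := by rw [hMcen c⁻¹ (M.inv_mem hcM) u hmem]; group
        _ = _ := by rw [h2, inv_mul_cancel_left]
    rw [mul_inv_eq_iff_eq_mul] at h6
    exact h6.symm
  -- the count
  have hlt : ev.ker < Subgroup.centralizer ({x} : Set R) :=
    lt_of_le_of_ne hAC fun he => hx (he ▸ Subgroup.mem_centralizer_singleton_iff.mpr rfl)
  have hlt' : Nat.card ev.ker < Nat.card (Subgroup.centralizer ({x} : Set R)) :=
    lt_of_le_of_ne (Subgroup.card_le_of_le hAC) fun he => hlt.ne (Subgroup.eq_of_le_of_card_ge hAC he.ge)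
  rw [hcent x hx] at hlt'
  have h1 := ev.ker.card_mul_index
  rw [← hcardLin, hn] at h1
  have h2 : Nat.card ev.ker * ev.ker.index ≤ Nat.card ev.ker * r ^ n := Nat.mul_le_mul_left _ hAidx
  have h3 : Nat.card ev.ker * r ^ n < Nat.card (Lin R) * r ^ n :=
    Nat.mul_lt_mul_of_pos_right hlt' (pow_pos hr.out.pos n)
  omega

end Cfsg.Agent.H44.Palfy
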