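import Mathlib.GroupTheory.Sylow
import Mathlib.GroupTheory.GroupAction.Quotient
import Mathlib.GroupTheory.GroupAction.FixingSubgroup
import Mathlib.Data.Nat.Prime.Basic

/-!
Non-zero points, each fixed by exactly one Sylow subgroup: counting, and the arithmetic of the resulting equation.
-/

set_option autoImplicit false

namespace Cfsg.Agent.H44.Palfy

open MulAction

section

variable {L V : Type*} [Group L] [Finite L] [AddCommGroup V] [Finite V] [DistribMulAction L V]
  {s : ℕ} [Fact s.Prime]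

variable (V) in
/-- Each non-zero point is fixed by exactly one Sylow `s`-subgroup. -/
def UniqueFix (s : ℕ) (L : Type*) [Group L] [DistribMulAction L V] : Prop :=
  ∀ v : V, v ≠ 0 → ∃! P : Sylow s L, ∀ g ∈ (P : Subgroup L), g • v = v

variable (V) in
/-- The points fixed by a subgroup. -/
def fixSet (H : Subgroup L) : AddSubgroup V where
  carrier := {v | ∀ g ∈ H, g • v = v}
  zero_mem' g _ := smul_zero g
  add_mem' ha hb g hg := by rw [smul_add, ha g hg, hb g hg]
  neg_mem' ha g hg := by rw [smul_neg, ha g hg]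

omit [Finite L] [Finite V] in
theorem mem_fixSet {H : Subgroup L} {v : V} : v ∈ fixSet V H ↔ ∀ g ∈ H, g • v = v := Iff.rfl

theorem card_fixSet_eq (P Q : Sylow s L) : Nat.card (fixSet V (P : Subgroup L)) = Nat.card (fixSet V (Q : Subgroup L)) := by
  obtain ⟨a, rfl⟩ := MulAction.exists_smul_eq L P Q
  refine Nat.card_congr (Equiv.subtypeEquiv (MulAction.toPerm a) fun v => ?_)
  simp only [mem_fixSet, MulAction.toPerm_apply]
  constructor
  · intro h g hg
    rw [Sylow.coe_subgroup_smul, Subgroup.mem_pointwise_smul_iff_inv_smul_mem] at hg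
    have := h _ hg
    simp only [MulAut.smul_def, MulAut.conj_inv_apply, mul_smul] at this
    exact inv_smul_eq_iff.mp this
  · intro h g hg
    have := h (a * g * a⁻¹) (by
      rw [Sylow.coe_subgroup_smul, Subgroup.mem_pointwise_smul_iff_inv_smul_mem]
      simpa [MulAut.smul_def, mul_assoc] using hg)
    rwa [mul_smul, mul_smul, inv_smul_smul, smul_left_cancel_iff] at this

/-- The non-zero points are partitioned by the fixed points of the Sylow subgroups. -/
theorem card_sylow_mul (h : UniqueFix V s L) (P : Sylow s L) :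
    Nat.card (Sylow s L) * (Nat.card (fixSet V (P : Subgroup L)) - 1) = Nat.card V - 1 := by
  classical
  cases nonempty_fintype V
  cases nonempty_fintype (Sylow s L)
  have h1 : ∀ A : AddSubgroup V, Nat.card {v : A // (v : V) ≠ 0} = Nat.card A - 1 := fun A => by
    cases nonempty_fintype A
    rw [Nat.card_eq_fintype_card, Nat.card_eq_fintype_card,
      Fintype.card_congr (Equiv.subtypeEquivRight (q := fun v : A => ¬ v = 0) fun v =>
        not_congr (ZeroMemClass.coe_eq_zero)), Fintype.card_subtype_compl]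
    simp
  have e : (Σ Q : Sylow s L, {v : fixSet V (Q : Subgroup L) // (v : V) ≠ 0}) ≃ {v : V // v ≠ 0} := by
    refine Equiv.ofBijective (fun p => ⟨p.2.1, p.2.2⟩) ⟨?_, fun v => ?_⟩
    · rintro ⟨Q, ⟨v, hv⟩, hv0⟩ ⟨R, ⟨w, hw⟩, hw0⟩ he
      obtain rfl : v = w := congrArg Subtype.val he
      obtain rfl : Q = R := (h v hv0).unique hv hw
      rfl
    · obtain ⟨Q, hQ, -⟩ := h v.1 v.2
      exact ⟨⟨Q, ⟨v.1, hQ⟩, v.2⟩, rfl⟩
  have h2 := Nat.card_congr e
  rw [Nat.card_sigma] at h2
  simp only [h1, card_fixSet_eq _ P, Finset.sum_const, Finset.card_univ, smul_eq_mul] at h2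
  rw [← Nat.card_eq_fintype_card] at h2
  rw [h2]
  simp [Nat.card_eq_fintype_card, Fintype.card_subtype_compl]

omit [Finite L] [Finite V] [Fact s.Prime] in
/-- A normal Sylow subgroup with this property acts trivially. -/
theorem smul_eq_of_subsingleton (h : UniqueFix V s L) [Subsingleton (Sylow s L)] (P : Sylow s L) {g : L}
    (hg : g ∈ (P : Subgroup L)) (v : V) : g • v = v := by
  rcases eq_or_ne v 0 with rfl | hv
  · exact smul_zero g
  · obtain ⟨Q, hQ, -⟩ := h v hv
    exact hQ g (Subsingleton.elim P Q ▸ hg)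

end

theorem pow_dvd_pred {r k d n : ℕ} (hr : 2 ≤ r) (hk : 2 ≤ k) (h : k * (r ^ d - 1) = r ^ n - 1) (hd : 0 < d) :
    d < n ∧ r ^ d ∣ k - 1 ∧ ¬ r ^ (d + 1) ∣ k - 1 := by
  have hd1 : 2 ≤ r ^ d := hr.trans (Nat.le_self_pow hd.ne' r)
  have hdn : d < n := by
    by_contra hle
    have h1 : r ^ n ≤ r ^ d := Nat.pow_le_pow_right (by omega) (not_lt.mp hle)
    have h2 : 2 * (r ^ d - 1) ≤ k * (r ^ d - 1) := Nat.mul_le_mul_right _ hk
    omega
  have he : (k - 1) * (r ^ d - 1) = r ^ d * (r ^ (n - d) - 1) := by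
    rw [Nat.sub_mul, h, one_mul, Nat.mul_sub, ← pow_add, Nat.add_sub_cancel' hdn.le, mul_one]
    have : r ^ d ≤ r ^ n := Nat.pow_le_pow_right (by omega) hdn.le
    omega
  have hc : Nat.Coprime r (r ^ d - 1) := by
    refine Nat.coprime_of_dvd' fun p hp hpr hpd => ?_
    have : p ∣ r ^ d := dvd_pow hpr hd.ne'
    have := Nat.dvd_sub this hpd
    rwa [show r ^ d - (r ^ d - 1) = 1 by omega] at this
  refine ⟨hdn, (Nat.Coprime.pow_left d hc).dvd_of_dvd_mul_right ⟨_, he⟩, fun hdiv => ?_⟩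
  have h1 : r ^ (d + 1) ∣ r ^ d * (r ^ (n - d) - 1) := he ▸ hdiv.mul_right _
  rw [pow_succ] at h1
  have h2 : r ∣ r ^ (n - d) - 1 := Nat.dvd_of_mul_dvd_mul_left (by positivity) h1
  have h3 : r ∣ r ^ (n - d) := dvd_pow_self r (Nat.sub_ne_zero_of_lt hdn)
  have h4 : 1 ≤ r ^ (n - d) := Nat.one_le_pow _ _ (by omega)
  have := Nat.dvd_sub h3 h2
  rw [show r ^ (n - d) - (r ^ (n - d) - 1) = 1 by omega] at this
  have := Nat.le_of_dvd one_pos this
  omega

/-- The two exponents agree. -/
theorem exponent_eq {r k a b α β : ℕ} (hr : 2 ≤ r) (hk : 2 ≤ k) (ha : 0 < a) (hb : 0 < b)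
    (h1 : k * (r ^ a - 1) = r ^ α - 1) (h2 : k * (r ^ b - 1) = r ^ β - 1) : α = β := by
  obtain ⟨-, ha1, ha2⟩ := pow_dvd_pred hr hk h1 ha
  obtain ⟨-, hb1, hb2⟩ := pow_dvd_pred hr hk h2 hb
  obtain rfl : a = b := by
    rcases lt_trichotomy a b with h | h | h
    · exact absurd ((pow_dvd_pow r h).trans hb1) ha2
    · exact h
    · exact absurd ((pow_dvd_pow r h).trans ha1) hb2
  have hle : ∀ x : ℕ, 1 ≤ r ^ x := fun x => Nat.one_le_pow _ _ (by omega)
  have := hle α
  have := hle β
  exact Nat.pow_right_injective hr (show r ^ α = r ^ β by omega)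

end Cfsg.Agent.H44.Palfy
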