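import Cfsg.Agent.Coprime.FpfElem
import Mathlib.GroupTheory.SemidirectProduct
import Mathlib.RingTheory.IntegralDomain
import Mathlib.RingTheory.LittleWedderburn
import Mathlib.GroupTheory.PGroup

/-!
An element of primitive prime order in a linear group: irreducibility, its centraliser, and the groups it
normalises.
-/

set_option autoImplicit false

namespace Cfsg.Agent.H44.Palfy

open MulAction
open scoped commutatorElement

variable {L V : Type*} [Group L] [Finite L] [AddCommGroup V] [Finite V] [DistribMulAction L V]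
  [FaithfulSMul L V]

/-- The setting: an element of prime order `z` dividing no `ℓ ^ f - 1`, `0 < f < n`, where `|V| = ℓ ^ n`. -/
structure Prim (x : L) (z ℓ n : ℕ) (V : Type*) [AddCommGroup V] : Prop where
  hz : z.Prime
  hℓ : ℓ.Prime
  hE : ∀ v : V, ℓ • v = 0
  hcard : Nat.card V = ℓ ^ n
  hx : orderOf x = z
  hzℓ : z ≠ ℓ
  hprim : ∀ f : ℕ, 0 < f → f < n → ¬ z ∣ ℓ ^ f - 1

variable {x : L} {z ℓ n : ℕ}

theorem Prim.card_fix_modEq (h : Prim x z ℓ n V) (W : AddSubgroup V) (hW : ∀ v ∈ W, x • v ∈ W) :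
    ∃ F : AddSubgroup V, (∀ v, v ∈ F ↔ v ∈ W ∧ x • v = v) ∧ Nat.card W ≡ Nat.card F [MOD z] := by
  classical
  haveI := Fact.mk h.hz
  have hP : IsPGroup z (Subgroup.zpowers x) := IsPGroup.of_card (n := 1) (by
    rw [Nat.card_zpowers, h.hx, pow_one])
  have hmem : ∀ g ∈ Subgroup.zpowers x, ∀ v ∈ W, g • v ∈ W := by
    intro g hg
    obtain ⟨i, rfl⟩ := (isOfFinOrder_of_finite x).mem_powers_iff_mem_zpowers.mpr hg
    intro v hv
    show x ^ i • v ∈ W
    clear hg
    induction i with
    | zero => simpa using hv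
    | succ i ih => rw [pow_succ', mul_smul]; exact hW _ ih
  letI : MulAction (Subgroup.zpowers x) W :=
    { smul := fun g v => ⟨(g : L) • (v : V), hmem g g.2 v v.2⟩
      one_smul := fun v => Subtype.ext (one_smul L (v : V))
      mul_smul := fun a b v => Subtype.ext (mul_smul (a : L) (b : L) (v : V)) }
  let F : AddSubgroup V :=
    { carrier := {v | v ∈ W ∧ x • v = v}
      zero_mem' := ⟨W.zero_mem, smul_zero x⟩
      add_mem' := fun {a b} ha hb => ⟨W.add_mem ha.1 hb.1, by rw [smul_add, ha.2, hb.2]⟩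
      neg_mem' := fun {a} ha => ⟨W.neg_mem ha.1, by rw [smul_neg, ha.2]⟩ }
  refine ⟨F, fun v => Iff.rfl, ?_⟩
  have e : fixedPoints (Subgroup.zpowers x) W ≃ F :=
    { toFun := fun v => ⟨v.1.1, v.1.2, congrArg Subtype.val (v.2 ⟨x, Subgroup.mem_zpowers x⟩)⟩
      invFun := fun v => ⟨⟨v.1, v.2.1⟩, fun g => Subtype.ext (by
        have hs : g.1 ∈ stabilizer L v.1 := (Subgroup.zpowers_le.mpr (mem_stabilizer_iff.mpr v.2.2)) g.2
        exact hs)⟩
      left_inv := fun v => rfl
      right_inv := fun v => rfl }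
  rw [← Nat.card_congr e]
  exact hP.card_modEq_card_fixedPoints W

omit [Finite L] [DistribMulAction L V] [FaithfulSMul L V] in
theorem Prim.exists_pow_card (h : Prim x z ℓ n V) (W : AddSubgroup V) :
    ∃ f, f ≤ n ∧ Nat.card W = ℓ ^ f := by
  have := W.card_addSubgroup_dvd_card
  rw [h.hcard] at this
  exact (Nat.dvd_prime_pow h.hℓ).mp this

omit [Finite L] [Finite V] [DistribMulAction L V] [FaithfulSMul L V] in
/-- Congruent powers below `n` are equal. -/
theorem Prim.pow_modEq (h : Prim x z ℓ n V) {a b : ℕ} (hb : b ≤ n) (hab : a ≤ b)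
    (hm : ℓ ^ b ≡ ℓ ^ a [MOD z]) : a = b ∨ (a = 0 ∧ b = n) := by
  by_contra hne
  push Not at hne
  have h1 : z ∣ ℓ ^ a * (ℓ ^ (b - a) - 1) := by
    rw [Nat.mul_sub, ← pow_add, Nat.add_sub_cancel' hab, mul_one]
    exact (Nat.modEq_iff_dvd' (Nat.pow_le_pow_right h.hℓ.pos hab)).mp hm.symm
  rcases h.hz.dvd_mul.mp h1 with h2 | h2
  · exact h.hzℓ ((Nat.prime_dvd_prime_iff_eq h.hz h.hℓ).mp (h.hz.dvd_of_dvd_pow h2))
  · rcases lt_or_eq_of_le (show b - a ≤ n by omega) with h3 | h3
    · exact h.hprim _ (by omega) h3 h2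
    · omega

/-- No fixed vector. -/
theorem Prim.fixed_eq_zero (h : Prim x z ℓ n V) {v : V} (hv : x • v = v) : v = 0 := by
  obtain ⟨F, hF, hm⟩ := h.card_fix_modEq ⊤ (fun _ _ => AddSubgroup.mem_top _)
  obtain ⟨f, hf, hfc⟩ := h.exists_pow_card F
  rw [AddSubgroup.card_top, h.hcard, hfc] at hm
  rcases h.pow_modEq le_rfl hf hm with rfl | ⟨rfl, -⟩
  · exfalso
    have : F = ⊤ := AddSubgroup.eq_top_of_card_eq F (by rw [hfc, h.hcard])
    have h1 : x = 1 := FaithfulSMul.eq_of_smul_eq_smul fun w : V => by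
      rw [one_smul]; exact ((hF w).mp (this ▸ AddSubgroup.mem_top w)).2
    exact h.hz.ne_one (by rw [← h.hx, h1, orderOf_one])
  · rw [pow_zero, AddSubgroup.card_eq_one] at hfc
    have : v ∈ F := (hF v).mpr ⟨AddSubgroup.mem_top v, hv⟩
    rwa [hfc, AddSubgroup.mem_bot] at this

/-- Invariant subgroups are trivial. -/
theorem Prim.eq_bot_or_top (h : Prim x z ℓ n V) (W : AddSubgroup V) (hW : ∀ v ∈ W, x • v ∈ W) :
    W = ⊥ ∨ W = ⊤ := by
  obtain ⟨F, hF, hm⟩ := h.card_fix_modEq W hW
  have hb : F = ⊥ := (AddSubgroup.eq_bot_iff_forall _).mpr fun v hv => h.fixed_eq_zero ((hF v).mp hv).2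
  obtain ⟨f, hf, hfc⟩ := h.exists_pow_card W
  rw [hb, AddSubgroup.card_bot, hfc, ← pow_zero ℓ] at hm
  rcases h.pow_modEq hf (Nat.zero_le _) hm with hf0 | ⟨-, hfn⟩
  · exact Or.inl (AddSubgroup.card_eq_one.mp (by rw [hfc, ← hf0, pow_zero]))
  · exact Or.inr (AddSubgroup.eq_top_of_card_eq W (by rw [hfc, hfn, h.hcard]))

/-- The endomorphism of an element. -/
def endo (L V : Type*) [Group L] [AddCommGroup V] [DistribMulAction L V] : L →* AddMonoid.End V :=
  DistribMulAction.toAddMonoidEnd L V

omit [Finite L] [Finite V] in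
theorem endo_injective : Function.Injective (endo L V) := fun a b hab =>
  FaithfulSMul.eq_of_smul_eq_smul fun v : V => DFunLike.congr_fun hab v

/-- The commutant of `x`. -/
def commutant (V : Type*) [AddCommGroup V] [DistribMulAction L V] (x : L) : Subring (AddMonoid.End V) :=
  Subring.centralizer {endo L V x}

omit [Finite L] [Finite V] [FaithfulSMul L V] in
theorem mem_commutant {c : AddMonoid.End V} : c ∈ commutant V x ↔ ∀ v : V, c (x • v) = x • c v := by
  rw [commutant, Subring.mem_centralizer_iff]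
  simp only [Set.mem_singleton_iff, forall_eq]
  exact ⟨fun h v => (DFunLike.congr_fun h v).symm, fun h => AddMonoidHom.ext fun v => (h v).symm⟩

omit [Finite L] [Finite V] [FaithfulSMul L V] in
theorem endo_mem_commutant {g : L} (hg : Commute g x) : endo L V g ∈ commutant V x :=
  mem_commutant.mpr fun v => by
    show g • x • v = x • g • v
    rw [← mul_smul, hg.eq, mul_smul]

/-- An element of the commutant killing a non-zero vector is zero. -/
theorem Prim.commutant_eq_zero (h : Prim x z ℓ n V) {c : AddMonoid.End V} (hc : c ∈ commutant V x) {v : V}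
    (hv : v ≠ 0) (hcv : c v = 0) : c = 0 := by
  let W : AddSubgroup V := AddMonoidHom.ker (c : V →+ V)
  rcases h.eq_bot_or_top W (fun w hw => by
    show c (x • w) = 0
    rw [mem_commutant.mp hc, show c w = 0 from hw, smul_zero]) with hW | hW
  · exact absurd (by
      have : v ∈ W := hcv
      rwa [hW, AddSubgroup.mem_bot] at this) hv
  · exact AddMonoidHom.ext fun w => (hW ▸ AddSubgroup.mem_top w : w ∈ W)

theorem Prim.commutant_isDomain (h : Prim x z ℓ n V) : IsDomain (commutant V x) := by
  haveI : Nontrivial (AddMonoid.End V) := by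
    refine ⟨⟨endo L V x, endo L V 1, fun he => h.hz.ne_one ?_⟩⟩
    rw [← h.hx, endo_injective he, orderOf_one]
  haveI : NoZeroDivisors (commutant V x) := ⟨fun {a b} hab => by
    by_cases hb : b = 0
    · exact Or.inr hb
    · obtain ⟨v, hv⟩ : ∃ v, (b : AddMonoid.End V) v ≠ 0 := by
        by_contra hne
        push Not at hne
        exact hb (Subtype.ext (AddMonoidHom.ext hne))
      exact Or.inl (Subtype.ext (h.commutant_eq_zero a.2 hv
        (DFunLike.congr_fun (congrArg Subtype.val hab) v)))⟩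
  exact NoZeroDivisors.to_isDomain _

/-- The centraliser is cyclic. -/
theorem Prim.isCyclic (h : Prim x z ℓ n V) (H : Subgroup L) (hH : ∀ g ∈ H, Commute g x) : IsCyclic H := by
  classical
  haveI := h.commutant_isDomain
  haveI : Finite (AddMonoid.End V) := Finite.of_injective (fun c : V →+ V => (c : V → V)) DFunLike.coe_injective
  letI : CommRing (commutant V x) :=
    { (inferInstance : Ring (commutant V x)) with mul_comm := (Finite.isDomain_to_isField _).mul_comm }
  haveI : IsDomain (commutant V x) := h.commutant_isDomain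
  exact isCyclic_of_injective_ringHom (R := commutant V x)
    { toFun := fun g : H => (⟨endo L V g, endo_mem_commutant (hH g g.2)⟩ : commutant V x)
      map_one' := Subtype.ext (map_one (endo L V))
      map_mul' := fun a b => Subtype.ext (map_mul (endo L V) (a : L) b) }
    fun a b hab => Subtype.ext (endo_injective (congrArg Subtype.val hab))

/-- The action on the multiplicative copy of `V`. -/
def mulHom (L V : Type*) [Group L] [AddCommGroup V] [DistribMulAction L V] : L →* MulAut (Multiplicative V) where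
  toFun g := AddEquiv.toMultiplicative (DistribMulAction.toAddEquiv V g)
  map_one' := MulEquiv.ext fun v => congrArg Multiplicative.ofAdd (one_smul L (Multiplicative.toAdd v))
  map_mul' g h := MulEquiv.ext fun v => congrArg Multiplicative.ofAdd (mul_smul g h (Multiplicative.toAdd v))

/-- An element of primitive order centralises the groups of coprime order it normalises, outside the
exception. -/
theorem Prim.commute (h : Prim x z ℓ n V) (K : Subgroup L) (hxK : ∀ k ∈ K, x * k * x⁻¹ ∈ K)
    (hK : ∀ s : ℕ, s.Prime → s ∣ Nat.card K → s ≠ ℓ ∧ s ≠ z ∧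
      (¬ (s = 2 ∧ ∃ m, 0 < m ∧ z = 2 ^ m + 1) ∨ IsMulCommutative K)) :
    ∀ k ∈ K, Commute x k := by
  classical
  haveI := Fact.mk h.hz
  haveI := Fact.mk h.hℓ
  set φ := mulHom L V
  haveI : Finite (Multiplicative V ⋊[φ] L) := Finite.of_equiv _ SemidirectProduct.equivProd.symm
  let il : Multiplicative V →* Multiplicative V ⋊[φ] L := SemidirectProduct.inl
  let ir : L →* Multiplicative V ⋊[φ] L := SemidirectProduct.inr
  have hconj : ∀ (g : L) (v : Multiplicative V), ir g * il v * (ir g)⁻¹ = il (φ g v) := fun g v =>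
    by rw [← map_inv]; exact (SemidirectProduct.inl_aut g v).symm
  have hnorm : ∀ g : L, ir g ∈ Subgroup.normalizer (il.range : Set (Multiplicative V ⋊[φ] L)) := by
    intro g
    refine Subgroup.mem_normalizer_iff.mpr fun w => ⟨?_, ?_⟩
    · rintro ⟨v, rfl⟩
      exact ⟨φ g v, (hconj g v).symm⟩
    · rintro ⟨v, hv⟩
      refine ⟨φ g⁻¹ v, ?_⟩
      rw [← hconj, hv, map_inv]
      simp [mul_assoc]
  haveI : IsMulCommutative il.range := ⟨⟨by
    rintro ⟨_, a, rfl⟩ ⟨_, b, rfl⟩
    exact Subtype.ext (by rw [Subgroup.coe_mul, Subgroup.coe_mul, ← map_mul, ← map_mul, mul_comm])⟩⟩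
  have key := Cfsg.Agent.Coprime.FpfElem.commutator_le_centralizer' (l := ℓ) (r := z) il.range
    (by
      rintro _ ⟨v, rfl⟩
      rw [← map_pow, show v ^ ℓ = 1 from h.hE (Multiplicative.toAdd v), map_one])
    (ir x) (by rw [← map_pow, ← h.hx, pow_orderOf_eq_one, map_one]) (Ne.symm h.hzℓ) (hnorm x)
    (by
      rintro _ ⟨v, rfl⟩ hv
      have h1 : φ x v = v := SemidirectProduct.inl_injective (by
        show il (φ x v) = il v
        rw [← hconj, hv, mul_inv_cancel_right])
      have h2 : x • Multiplicative.toAdd v = Multiplicative.toAdd v := congrArg Multiplicative.toAdd h1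
      have h3 : v = 1 := h.fixed_eq_zero h2
      rw [h3, map_one])
    (K.map ir) (by rintro _ ⟨k, -, rfl⟩; exact hnorm k)
    (by
      refine Subgroup.mem_normalizer_iff.mpr fun w => ⟨?_, ?_⟩
      · rintro ⟨k, hk, rfl⟩
        exact ⟨x * k * x⁻¹, hxK k hk, by simp⟩
      · rintro ⟨k, hk, hkw⟩
        have hinv : ∀ i : ℕ, ∀ a ∈ K, x ^ i * a * (x ^ i)⁻¹ ∈ K := by
          intro i
          induction i with
          | zero => simp
          | succ i ih =>
            intro a ha
            rw [pow_succ', mul_inv_rev, show x * x ^ i * a * ((x ^ i)⁻¹ * x⁻¹) =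
              x * (x ^ i * a * (x ^ i)⁻¹) * x⁻¹ by group]
            exact hxK _ (ih a ha)
        refine ⟨x⁻¹ * k * x, ?_, ?_⟩
        · obtain ⟨i, hi⟩ := (isOfFinOrder_of_finite x).mem_powers_iff_mem_zpowers.mpr
            (inv_mem (Subgroup.mem_zpowers x))
          have h4 := hinv i k hk
          simp only at hi
          rwa [hi, inv_inv] at h4
        · rw [map_mul, map_mul, hkw, map_inv]; group)
    (fun s hs hsd => by
      rw [Subgroup.card_map_of_injective SemidirectProduct.inr_injective] at hsd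
      obtain ⟨h1, h2, h3⟩ := hK s hs hsd
      refine ⟨h1, h2, h3.imp id fun hc => ⟨⟨?_⟩⟩⟩
      rintro ⟨_, a, ha, rfl⟩ ⟨_, b, hb, rfl⟩
      refine Subtype.ext ?_
      show ir a * ir b = ir b * ir a
      rw [← map_mul, ← map_mul]
      exact congrArg ir (congrArg Subtype.val (hc.is_comm.comm (⟨a, ha⟩ : K) ⟨b, hb⟩)))
  intro k hk
  have h4 := key (Subgroup.commutator_mem_commutator (Subgroup.mem_zpowers _) (Subgroup.mem_map_of_mem ir hk))
  rw [← map_commutatorElement] at h4
  have h5 : ∀ v : V, ⁅x, k⁆ • v = v := fun v => by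
    have := Subgroup.mem_centralizer_iff.mp h4 (il (Multiplicative.ofAdd v)) ⟨_, rfl⟩
    have h6 : φ ⁅x, k⁆ (Multiplicative.ofAdd v) = Multiplicative.ofAdd v := SemidirectProduct.inl_injective (by
      show il _ = il _
      rw [← hconj, ← this, mul_inv_cancel_right])
    exact congrArg Multiplicative.toAdd h6
  have h7 : ⁅x, k⁆ = 1 := FaithfulSMul.eq_of_smul_eq_smul fun v : V => by rw [h5, one_smul]
  exact commutatorElement_eq_one_iff_mul_comm.mp h7

end Cfsg.Agent.H44.Palfy
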