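import Cfsg.Agent.H44.Palfy.Irred
import Cfsg.Agent.Coprime.Centralize
import Cfsg.Agent.Coprime.Commutator
import Mathlib.Algebra.Module.ZMod
import Mathlib.LinearAlgebra.Dimension.Finite
import Mathlib.GroupTheory.GroupAction.Quotient

/-!
The exceptional case: a two-group normalised by an element of Fermat prime order.
-/

set_option autoImplicit false

namespace Cfsg.Agent.H44.Palfy

open MulAction
open scoped commutatorElement

variable {L V : Type*} [Group L] [Finite L] [AddCommGroup V] [Finite V] [DistribMulAction L V]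
  [FaithfulSMul L V] {x : L} {z ℓ n : ℕ}

omit [AddCommGroup V] [Finite V] [DistribMulAction L V] [FaithfulSMul L V] in
theorem mem_normalizer_of_forall {A : Subgroup L} {g : L} (h : ∀ a ∈ A, g * a * g⁻¹ ∈ A) :
    g ∈ Subgroup.normalizer (A : Set L) := by
  refine Subgroup.mem_normalizer_iff.mpr fun a => ⟨h a, fun ha => ?_⟩
  obtain ⟨i, hi⟩ := (isOfFinOrder_of_finite g).mem_powers_iff_mem_zpowers.mpr (inv_mem (Subgroup.mem_zpowers g))
  have hinv : ∀ i : ℕ, ∀ a ∈ A, g ^ i * a * (g ^ i)⁻¹ ∈ A := by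
    intro i
    induction i with
    | zero => simp
    | succ i ih =>
      intro a ha
      rw [pow_succ', mul_inv_rev, show g * g ^ i * a * ((g ^ i)⁻¹ * g⁻¹) = g * (g ^ i * a * (g ^ i)⁻¹) * g⁻¹ by
        group]
      exact h _ (ih a ha)
  have h1 := hinv i _ ha
  simp only at hi
  rw [hi] at h1
  simpa [mul_assoc] using h1

omit [AddCommGroup V] [Finite V] [DistribMulAction L V] [FaithfulSMul L V] in
theorem zpowers_eq_of_orderOf {y g : L} {z i : ℕ} (hz : z.Prime) (hy : orderOf y = z ^ i)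
    (hg : g ∈ Subgroup.zpowers y) (ho : orderOf g = z) :
    Subgroup.zpowers g = Subgroup.zpowers (y ^ (z ^ (i - 1))) := by
  obtain ⟨e, rfl⟩ := (isOfFinOrder_of_finite y).mem_powers_iff_mem_zpowers.mpr hg
  simp only at ho ⊢
  rcases i with _ | i
  · rw [pow_zero, orderOf_eq_one_iff] at hy
    rw [hy, one_pow, orderOf_one] at ho
    exact absurd ho.symm hz.ne_one
  have h1 : y ^ (e * z) = 1 := by rw [pow_mul]; exact ho ▸ pow_orderOf_eq_one (y ^ e)
  have h2 : z ^ i * z ∣ e * z := by rw [← pow_succ, ← hy]; exact orderOf_dvd_of_pow_eq_one h1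
  obtain ⟨f, hf⟩ := Nat.dvd_of_mul_dvd_mul_right hz.pos h2
  refine Subgroup.eq_of_le_of_card_ge (Subgroup.zpowers_le.mpr ⟨f, ?_⟩) ?_
  · simp only [Nat.add_sub_cancel, zpow_natCast, ← pow_mul, hf]
  · rw [Nat.card_zpowers, Nat.card_zpowers, ho, Nat.add_sub_cancel,
      orderOf_pow_of_dvd (pow_ne_zero _ hz.ne_zero) (hy ▸ pow_dvd_pow z i.le_succ), hy, pow_succ,
      Nat.mul_div_cancel_left _ (pow_pos hz.pos i)]

/-- Operators with signs separating an indexed family are independent. -/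
theorem indep_of_signs {A ι D : Type*} [Ring A] [DecidableEq ι] {ℓ : ℕ} (hℓ : ℓ.Prime) (hℓ2 : ℓ ≠ 2)
    (a : ι → A) (u w : D → A) (ε : ι → D → ℤ) (hconj : ∀ i d, u d * a i * w d = ε i d • a i)
    (hε : ∀ i d, ε i d = 1 ∨ ε i d = -1) (hsep : ∀ i j, i ≠ j → ∃ d, ε i d ≠ ε j d)
    (hA : ∀ b : A, (ℓ : ℤ) • b = 0) (ha : ∀ i (c : ℤ), c • a i = 0 → (ℓ : ℤ) ∣ c) :
    ∀ (S : Finset ι) (c : ι → ℤ), ∑ i ∈ S, c i • a i = 0 → ∀ i ∈ S, (ℓ : ℤ) ∣ c i := by
  haveI := Fact.mk hℓ
  intro S
  induction S using Finset.induction with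
  | empty => simp
  | insert j S hj ih =>
    intro c hc
    rw [Finset.sum_insert hj] at hc
    have hS : ∀ i ∈ S, (ℓ : ℤ) ∣ c i := by
      intro i hi
      obtain ⟨d, hd⟩ := hsep i j (fun h => hj (h ▸ hi))
      have h1 : u d * (c j • a j + ∑ k ∈ S, c k • a k) * w d = 0 := by rw [hc, mul_zero, zero_mul]
      simp only [mul_add, add_mul, Finset.mul_sum, Finset.sum_mul, mul_smul_comm, smul_mul_assoc, hconj,
        smul_smul] at h1
      have h2 : ∑ k ∈ S, (c k * (ε k d - ε j d)) • a k = 0 := by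
        have h3 : ε j d • (c j • a j + ∑ k ∈ S, c k • a k) = 0 := by rw [hc, smul_zero]
        simp only [smul_add, Finset.smul_sum, smul_smul] at h3
        have h4 := congrArg₂ (· - ·) h1 h3
        simp only [sub_zero] at h4
        rw [add_sub_add_comm, mul_comm (c j), sub_self, zero_add, ← Finset.sum_sub_distrib] at h4
        rw [← h4]
        refine Finset.sum_congr rfl fun k _ => ?_
        rw [← sub_smul]
        congr 1
        ring
      have h5 := ih _ h2 i hi
      rcases (Nat.prime_iff_prime_int.mp hℓ).dvd_or_dvd h5 with h6 | h6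
      · exact h6
      · exfalso
        have h7 : ε i d - ε j d = 2 ∨ ε i d - ε j d = -2 := by
          rcases hε i d with h | h <;> rcases hε j d with h' | h' <;> omega
        have h8 : (ℓ : ℤ) ∣ 2 := by
          rcases h7 with h | h <;> rw [h] at h6
          · exact h6
          · exact (dvd_neg.mp h6)
        have : ℓ ∣ 2 := by exact_mod_cast h8
        exact hℓ2 ((Nat.prime_dvd_prime_iff_eq hℓ Nat.prime_two).mp this)
    intro i hi
    rcases Finset.mem_insert.mp hi with rfl | hi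
    · obtain ⟨v, hv⟩ : ∃ v, ∀ k ∈ S, c k = (ℓ : ℤ) * v k :=
        ⟨fun k => c k / ℓ, fun k hk => (Int.mul_ediv_cancel' (hS k hk)).symm⟩
      refine ha i (c i) ?_
      rw [Finset.sum_eq_zero (fun k hk => ?_), add_zero] at hc
      · exact hc
      · rw [hv k hk, mul_smul]
        exact hA _
    · exact hS i hi

omit [FaithfulSMul L V] in
theorem card_endo_le (h : Prim x z ℓ n V) : Nat.card (AddMonoid.End V) ≤ ℓ ^ (n * n) := by
  haveI := Fact.mk h.hℓ
  haveI : Module (ZMod ℓ) V := AddCommGroup.zmodModule h.hE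
  haveI : Module.Finite (ZMod ℓ) V := Module.Finite.of_finite
  let b := Module.finBasis (ZMod ℓ) V
  have hn : Module.finrank (ZMod ℓ) V = n := by
    have h1 := Module.natCard_eq_pow_finrank (K := ZMod ℓ) (V := V)
    rw [h.hcard, Nat.card_zmod] at h1
    exact (Nat.pow_right_injective h.hℓ.two_le h1).symm
  let f : AddMonoid.End V → (Fin (Module.finrank (ZMod ℓ) V) → V) := fun g i => g (b i)
  have hf : Function.Injective f := fun g g' hgg => by
    have h1 : AddMonoidHom.toZModLinearMap ℓ (g : V →+ V) = AddMonoidHom.toZModLinearMap ℓ (g' : V →+ V) :=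
      b.ext fun i => congrFun hgg i
    exact AddMonoidHom.ext fun v => LinearMap.congr_fun h1 v
  refine (Nat.card_le_card_of_injective f hf).trans (le_of_eq ?_)
  rw [Nat.card_fun, h.hcard, Nat.card_eq_fintype_card, Fintype.card_fin, hn, pow_mul]

theorem fermat_contradiction {z m w n : ℕ} (hz : z = 2 ^ m + 1) (hn : n + 1 < z) (hw : 0 < w)
    (hdvd : z ∣ 2 ^ w - 1) (hle : 2 ^ w ≤ n * n) : False := by
  have h1 : n * n < 2 ^ m * 2 ^ m := Nat.mul_self_lt_mul_self (by omega)
  rw [← pow_add] at h1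
  have h2 : w < m + m := (Nat.pow_lt_pow_iff_right (by norm_num)).mp (lt_of_le_of_lt hle h1)
  have h3 : 1 ≤ 2 ^ w := Nat.one_le_two_pow
  have h4 : 0 < 2 ^ w - 1 := by
    have : 2 ≤ 2 ^ w := Nat.le_self_pow hw.ne' 2
    omega
  rcases le_or_gt w m with hwm | hwm
  · have := Nat.le_of_dvd h4 hdvd
    have := Nat.pow_le_pow_right (show 0 < 2 by norm_num) hwm
    omega
  · obtain ⟨j, rfl⟩ : ∃ j, w = m + j := ⟨w - m, by omega⟩
    have h5 : z ∣ 2 ^ j + 1 := by
      have h6 : z ∣ 2 ^ j * z := dvd_mul_left _ _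
      have h7 : 2 ^ j * z = (2 ^ (m + j) - 1) + (2 ^ j + 1) := by
        rw [pow_add] at h3 ⊢
        rw [hz, mul_add, mul_one, mul_comm (2 ^ j) (2 ^ m)]
        generalize 2 ^ m * 2 ^ j = a at h3 ⊢
        omega
      rw [h7] at h6
      exact (Nat.dvd_add_right hdvd).mp h6
    have := Nat.le_of_dvd (Nat.succ_pos _) h5
    have := Nat.pow_lt_pow_right (show 1 < 2 by norm_num) (show j < m by omega)
    omega

/-- A two-group normalised by `y` is centralised by `x ∈ ⟨y⟩`. -/
theorem Prim.commute_two (h : Prim x z ℓ n V) (hℓ2 : ℓ ≠ 2) (hz2 : z ≠ 2) (hnz : n + 1 ≤ z) (y : L) (i : ℕ)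
    (hy : orderOf y = z ^ i) (hxy : x ∈ Subgroup.zpowers y) (hbig : n + 1 < z ∨ 2 ≤ i)
    (U : Subgroup L) (hU : IsPGroup 2 U) (hyU : y ∈ Subgroup.normalizer (U : Set L)) :
    ∀ g ∈ U, Commute x g := by
  classical
  by_cases hex : ∃ m, 0 < m ∧ z = 2 ^ m + 1
  swap
  · refine h.commute U (fun k hk => ?_) fun s hs hsd => ?_
    · exact (Subgroup.mem_normalizer_iff.mp ((Subgroup.zpowers_le.mpr hyU) hxy) k).mp hk
    · obtain ⟨a, ha⟩ := IsPGroup.iff_card.mp hU
      obtain rfl : s = 2 := (Nat.prime_dvd_prime_iff_eq hs Nat.prime_two).mp (hs.dvd_of_dvd_pow (ha ▸ hsd))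
      exact ⟨Ne.symm hℓ2, Ne.symm hz2, Or.inl fun hc => hex hc.2⟩
  obtain ⟨m, hm, hzm⟩ := hex
  by_contra hcon
  haveI := Fact.mk h.hz
  haveI := Fact.mk Nat.prime_two
  set X := Subgroup.zpowers x with hX
  have hyx : Commute y x := by
    obtain ⟨e, rfl⟩ := hxy
    exact (Commute.refl y).zpow_right e
  have hcen : ∀ A : Subgroup L, A ≤ Subgroup.centralizer (X : Set L) ↔ ∀ g ∈ A, Commute x g := fun A => by
    constructor
    · intro hA g hg
      exact (Subgroup.mem_centralizer_iff.mp (hA hg) x (Subgroup.mem_zpowers x))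
    · intro hA g hg
      rw [Subgroup.mem_centralizer_iff]
      rintro _ ⟨e, rfl⟩
      exact ((hA g hg).zpow_left e).eq
  let 𝒮 := {D : Subgroup L | D ≤ U ∧ y ∈ Subgroup.normalizer (D : Set L) ∧
    ¬ D ≤ Subgroup.centralizer (X : Set L)}
  obtain ⟨D, hD⟩ := (Set.toFinite 𝒮).exists_minimal ⟨U, le_rfl, hyU, fun hc => hcon ((hcen U).mp hc)⟩
  obtain ⟨hDU, hyD, hDc⟩ := hD.prop
  have hmin : ∀ A : Subgroup L, A ≤ D → y ∈ Subgroup.normalizer (A : Set L) → A ≠ D →
      A ≤ Subgroup.centralizer (X : Set L) := fun A hA hyA hne => by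
    by_contra hc
    exact hne (le_antisymm hA (hD.le_of_le ⟨hA.trans hDU, hyA, hc⟩ hA))
  have hD2 : IsPGroup 2 D := hU.to_le hDU
  have hXD : X ≤ Subgroup.normalizer (D : Set L) :=
    Subgroup.zpowers_le.mpr ((Subgroup.zpowers_le.mpr hyD) hxy)
  have hXcard : Nat.card X = z := by rw [hX, Nat.card_zpowers, h.hx]
  have hcop : (Nat.card X).Coprime (Nat.card D) := by
    obtain ⟨a, ha⟩ := IsPGroup.iff_card.mp hD2
    rw [hXcard, ha]
    exact ((Nat.coprime_primes h.hz Nat.prime_two).mpr hz2).pow_right a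
  have hsol : Group.IsSolvable X ∨ Group.IsSolvable D := Or.inl (Coprime.isSolvable_zpowers x)
  have hyX : y ∈ Subgroup.normalizer (X : Set L) := mem_normalizer_of_forall fun a ha => by
    obtain ⟨e, rfl⟩ := ha
    rw [(hyx.zpow_right e).eq, mul_inv_cancel_right]
    exact ⟨e, rfl⟩
  have hDX : ⁅D, X⁆ = D := by
    by_contra hne
    have h1 := hmin _ (Coprime.commutator_le_left_of_normalizer hXD)
      (Coprime.mem_normalizer_commutator hyD hyX) hne
    refine hDc ?_
    rw [← Subgroup.commutator_eq_bot_iff_le_centralizer, ← Coprime.commutator_commutator_eq hXD hcop hsol,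
      Subgroup.commutator_eq_bot_iff_le_centralizer]
    exact h1
  set Z := D ⊓ Subgroup.centralizer (X : Set L) with hZ
  have hZD : Z ≤ D := inf_le_left
  have hyZ : y ∈ Subgroup.normalizer (Z : Set L) := mem_normalizer_of_forall fun a ha =>
    ⟨(Subgroup.mem_normalizer_iff.mp hyD a).mp ha.1, (hcen (Subgroup.closure {y * a * y⁻¹})).mpr
      (fun g hg => by
        have hax : Commute x a := Subgroup.mem_centralizer_iff.mp ha.2 x (Subgroup.mem_zpowers x)
        induction hg using Subgroup.closure_induction with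
        | mem u hu => rw [Set.mem_singleton_iff.mp hu]
                      exact ((hyx.symm.mul_right hax).mul_right hyx.symm.inv_right)
        | one => exact Commute.one_right x
        | mul a b _ _ h1 h2 => exact h1.mul_right h2
        | inv a _ h1 => exact h1.inv_right) (Subgroup.subset_closure rfl)⟩
  have hDne : D ≠ ⊥ := fun h0 => hDc (h0 ▸ bot_le)
  have hDD : ⁅D, D⁆ ≤ Z := by
    have hlt := Coprime.commutator_lt_of_isPGroup hD2 hD2 Subgroup.le_normalizer hDne
    exact le_inf hlt.le (hmin _ hlt.le (Coprime.mem_normalizer_commutator hyD hyD) hlt.ne)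
  have hZcomm : ∀ d ∈ D, ∀ c ∈ Z, Commute d c := by
    have hbot : ∀ K : Subgroup L, K ≤ Subgroup.normalizer ((⊥ : Subgroup L) : Set L) := fun K g _ =>
      Subgroup.mem_normalizer_iff.mpr fun u => by simp
    have h1 : ⁅⁅D, X⁆, Z⁆ ≤ ⊥ := Coprime.commutator_rotate_le (hbot _) (hbot _) (hbot _)
      (by
        rw [show ⁅X, Z⁆ = ⊥ from Subgroup.commutator_eq_bot_iff_le_centralizer.mpr
          (Subgroup.le_centralizer_iff.mp inf_le_right), Subgroup.commutator_bot_left])
      (by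
        refine le_of_eq (Subgroup.commutator_eq_bot_iff_le_centralizer.mpr ?_)
        exact ((Subgroup.commutator_mono hZD le_rfl).trans hDD).trans inf_le_right)
    intro d hd c hc
    rw [← hDX] at hd
    exact (commutatorElement_eq_one_iff_mul_comm.mp
      (Subgroup.mem_bot.mp (h1 (Subgroup.commutator_mem_commutator hd hc))))
  have hZn : ∀ d ∈ D, ∀ c ∈ Z, d * c * d⁻¹ = c := fun d hd c hc => by
    rw [(hZcomm d hd c hc).eq, mul_inv_cancel_right]
  have hc : ∀ a ∈ D, ∀ b ∈ D, ⁅a, b⁆ ∈ Z := fun a ha b hb => hDD (Subgroup.commutator_mem_commutator ha hb)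
  -- squares lie in `Z`
  have hswap : ∀ e ∈ D, ∀ f ∈ D, e ^ 2 * f ^ 2 = ⁅f, e⁆⁻¹ * (e * f) ^ 2 := fun e he f hf => by
    have h1 : (e * f) ^ 2 = e * (⁅f, e⁆ * (e * f)) * f := by
      rw [commutatorElement_def]; simp [pow_two, mul_assoc]
    have h2 : e * ⁅f, e⁆ = ⁅f, e⁆ * e := (hZcomm e he _ (hc f hf e he)).eq
    rw [h1, ← mul_assoc e, h2]
    generalize ⁅f, e⁆ = k
    simp [pow_two, mul_assoc]
  let D2 : Subgroup L :=
    { carrier := {d | ∃ e ∈ D, ∃ c ∈ Z, d = e ^ 2 * c}
      one_mem' := ⟨1, D.one_mem, 1, Z.one_mem, by simp⟩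
      mul_mem' := by
        rintro _ _ ⟨e, he, c, hc', rfl⟩ ⟨f, hf, c', hc'', rfl⟩
        refine ⟨e * f, D.mul_mem he hf, ⁅f, e⁆⁻¹ * (c * c'),
          Z.mul_mem (Z.inv_mem (hc f hf e he)) (Z.mul_mem hc' hc''), ?_⟩
        have h1 : c * f ^ 2 = f ^ 2 * c := ((hZcomm f hf c hc').symm.pow_right 2).eq
        have h2 : (e * f) ^ 2 * ⁅f, e⁆⁻¹ = ⁅f, e⁆⁻¹ * (e * f) ^ 2 :=
          ((hZcomm _ (D.mul_mem he hf) _ (Z.inv_mem (hc f hf e he))).pow_left 2).eq
        rw [mul_assoc (e ^ 2) c, ← mul_assoc c, h1, mul_assoc (f ^ 2), ← mul_assoc (e ^ 2), hswap e he f hf,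
          ← mul_assoc ((e * f) ^ 2), h2]
      inv_mem' := by
        rintro _ ⟨e, he, c, hc', rfl⟩
        refine ⟨e⁻¹, D.inv_mem he, c⁻¹, Z.inv_mem hc', ?_⟩
        rw [mul_inv_rev, inv_pow]
        exact (((hZcomm e he c hc').pow_left 2).inv_inv).symm.eq }
  have hD2le : D2 ≤ D := by
    rintro _ ⟨e, he, c, hc', rfl⟩
    exact D.mul_mem (D.pow_mem he 2) (hZD hc')
  have hsq : ∀ d ∈ D, d ^ 2 ∈ Z := by
    have hne : D2 ≠ D := by
      intro heq
      haveI : (Z.subgroupOf D).Normal := ⟨fun a ha g => by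
        rw [Subgroup.mem_subgroupOf] at ha ⊢
        rw [Subgroup.coe_mul, Subgroup.coe_mul, Subgroup.coe_inv, hZn g g.2 a ha]; exact ha⟩
      let Q := D ⧸ Z.subgroupOf D
      have hsurj : Function.Surjective (fun q : Q => q ^ 2) := fun q => by
        induction q using QuotientGroup.induction_on with
        | H d =>
          obtain ⟨e, he, c, hc', hde⟩ := (heq.symm ▸ d.2 : (d : L) ∈ D2)
          refine ⟨((⟨e, he⟩ : D) : Q), ?_⟩
          show ((⟨e, he⟩ : D) : Q) ^ 2 = _
          rw [← QuotientGroup.mk_pow, QuotientGroup.eq, Subgroup.mem_subgroupOf]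
          push_cast
          rw [hde, inv_mul_cancel_left]
          exact hc'
      have hinj := Finite.injective_iff_surjective.mpr hsurj
      haveI : Nontrivial Q := QuotientGroup.nontrivial_iff.mpr fun h0 => hDc (fun d hd =>
        (Subgroup.mem_inf.mp (Subgroup.mem_subgroupOf.mp (h0 ▸ Subgroup.mem_top (⟨d, hd⟩ : D)) : d ∈ Z)).2)
      have hQ2 : IsPGroup 2 Q := hD2.to_quotient _
      obtain ⟨a, ha⟩ := IsPGroup.iff_card.mp hQ2
      have ha0 : a ≠ 0 := fun h0 => by
        have := Finite.one_lt_card (α := Q)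
        rw [ha, h0, pow_zero] at this; omega
      obtain ⟨q, hq⟩ := exists_prime_orderOf_dvd_card' 2 (ha ▸ dvd_pow_self 2 ha0)
      have h1 : q ^ 2 = (1 : Q) ^ 2 := by rw [one_pow, ← hq, pow_orderOf_eq_one]
      rw [hinj h1, orderOf_one] at hq
      exact absurd hq (by norm_num)
    intro d hd
    refine ⟨D.pow_mem hd 2, hmin D2 hD2le (mem_normalizer_of_forall ?_) hne
      ⟨d, hd, 1, Z.one_mem, (mul_one _).symm⟩⟩
    rintro _ ⟨e, he, c, hc', rfl⟩
    refine ⟨y * e * y⁻¹, (Subgroup.mem_normalizer_iff.mp hyD e).mp he, y * c * y⁻¹,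
      (Subgroup.mem_normalizer_iff.mp hyZ c).mp hc', ?_⟩
    simp [pow_two, mul_assoc]
  -- commutators act as signs
  set E := endo L V
  have hsign : ∀ a ∈ D, ∀ b ∈ D, E ⁅a, b⁆ = 1 ∨ E ⁅a, b⁆ = -1 := by
    intro a ha b hb
    have hcz := hc a ha b hb
    have h2 : ⁅a, b⁆ * ⁅a, b⁆ = 1 := by
      have h3 : a * a * b = b * (a * a) := by
        have := (hZcomm b hb _ (hsq a ha)).eq
        rw [pow_two] at this
        exact this.symm
      have h4 : a * ⁅a, b⁆ = ⁅a, b⁆ * a := (hZcomm a ha _ hcz).eq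
      have h5 : a * a * b = ⁅a, b⁆ * ⁅a, b⁆ * (b * (a * a)) := by
        calc a * a * b = a * (⁅a, b⁆ * (b * a)) := by rw [commutatorElement_def]; simp [mul_assoc]
          _ = ⁅a, b⁆ * (a * b) * a := by rw [← mul_assoc, h4]; simp [mul_assoc]
          _ = _ := by
            conv_lhs => rw [show a * b = ⁅a, b⁆ * (b * a) by rw [commutatorElement_def]; simp [mul_assoc]]
            simp [mul_assoc]
      rw [h3] at h5
      exact (mul_right_cancel (h5.symm.trans (one_mul _).symm))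
    have hmem : E ⁅a, b⁆ ∈ commutant V x := endo_mem_commutant
      (Subgroup.mem_centralizer_iff.mp hcz.2 x (Subgroup.mem_zpowers x)).symm
    by_contra hne
    push Not at hne
    obtain ⟨v, hv⟩ : ∃ v, (E ⁅a, b⁆ - 1) v ≠ 0 := by
      by_contra hne'
      push Not at hne'
      exact hne.1 (sub_eq_zero.mp (AddMonoidHom.ext hne'))
    have h6 : (E ⁅a, b⁆ + 1) * (E ⁅a, b⁆ - 1) = 0 := by
      simp [add_mul, mul_sub, ← map_mul, h2]
      abel
    exact hne.2 (eq_neg_of_add_eq_zero_left (h.commutant_eq_zero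
      ((commutant V x).add_mem hmem (commutant V x).one_mem) hv (DFunLike.congr_fun h6 v)))
  -- an element commuting with `D` lies in `Z`
  have hcenter : ∀ u ∈ D, (∀ d ∈ D, Commute d u) → u ∈ Z := by
    intro u hu hud
    set C := D ⊓ Subgroup.centralizer (D : Set L) with hC
    have hyC : y ∈ Subgroup.normalizer (C : Set L) := mem_normalizer_of_forall fun a ha => by
      refine ⟨(Subgroup.mem_normalizer_iff.mp hyD a).mp ha.1, Subgroup.mem_centralizer_iff.mpr fun d hd => ?_⟩
      have hd' : y⁻¹ * d * y ∈ D := Coprime.conj_mem' hyD hd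
      have := Subgroup.mem_centralizer_iff.mp ha.2 _ hd'
      have h7 := congrArg (fun t => y * t * y⁻¹) this
      simpa [mul_assoc] using h7
    by_cases hCD : C = D
    · exfalso
      refine hDc ((hcen D).mpr (h.commute D (fun k hk =>
        (Subgroup.mem_normalizer_iff.mp (hXD (Subgroup.mem_zpowers x)) k).mp hk) fun s hs hsd => ?_))
      obtain ⟨a, ha⟩ := IsPGroup.iff_card.mp hD2
      obtain rfl : s = 2 := (Nat.prime_dvd_prime_iff_eq hs Nat.prime_two).mp (hs.dvd_of_dvd_pow (ha ▸ hsd))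
      refine ⟨Ne.symm hℓ2, Ne.symm hz2, Or.inr ⟨⟨fun a b => Subtype.ext ?_⟩⟩⟩
      have ha' : (a : L) ∈ C := hCD.symm ▸ a.2
      exact (Subgroup.mem_centralizer_iff.mp ha'.2 b b.2).symm
    · exact ⟨hu, hmin C inf_le_left hyC hCD
        ⟨hu, Subgroup.mem_centralizer_iff.mpr fun d hd => (hud d hd).eq⟩⟩
  -- coset representatives are independent operators
  let Q := D ⧸ Z.subgroupOf D
  haveI : Fintype Q := Fintype.ofFinite _
  let r : Q → L := fun q => ((Quotient.out q : D) : L)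
  have hrD : ∀ q, r q ∈ D := fun q => SetLike.coe_mem _
  let ε : Q → D → ℤ := fun q d => if E ⁅(d : L), r q⁆ = 1 then 1 else -1
  have hεE : ∀ q (d : D), E ⁅(d : L), r q⁆ = ((ε q d : ℤ) : AddMonoid.End V) := fun q d => by
    rcases hsign d d.2 (r q) (hrD q) with h1 | h1
    · simp [ε, h1]
    · by_cases h2 : E ⁅(d : L), r q⁆ = 1
      · simp [ε, h2]
      · simp [ε, h2]; exact h1
  have hindep := indep_of_signs h.hℓ hℓ2 (fun q => E (r q)) (fun d : D => E (d : L)) (fun d : D => E (d : L)⁻¹) ε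
    (fun q d => by
      rw [← map_mul, ← map_mul, zsmul_eq_mul, ← hεE, ← map_mul]
      congr 1
      rw [commutatorElement_def]; simp [mul_assoc])
    (fun q d => by simp only [ε]; split_ifs <;> simp)
    (fun q q' hqq => by
      by_contra hne
      push Not at hne
      refine hqq ?_
      have hall : ∀ d ∈ D, ⁅d, r q⁆ = ⁅d, r q'⁆ := fun d hd => endo_injective (V := V) (by
        rw [hεE q ⟨d, hd⟩, hεE q' ⟨d, hd⟩, hne ⟨d, hd⟩])
      have hu : (r q')⁻¹ * r q ∈ Z := by
        refine hcenter _ (D.mul_mem (D.inv_mem (hrD q')) (hrD q)) fun d hd => ?_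
        have h1 := hall d hd
        have e1 : d * r q = ⁅d, r q⁆ * (r q * d) := by rw [commutatorElement_def]; simp [mul_assoc]
        have e2 : d * r q' = ⁅d, r q'⁆ * (r q' * d) := by rw [commutatorElement_def]; simp [mul_assoc]
        set c := ⁅d, r q'⁆
        have hc1 : c * (r q')⁻¹ = (r q')⁻¹ * c :=
          ((hZcomm _ (D.inv_mem (hrD q')) _ (hc d hd _ (hrD q'))).eq).symm
        have e3 : d * (r q')⁻¹ = (r q')⁻¹ * (c⁻¹ * d) := by
          have h8 : c⁻¹ * (d * r q') = r q' * d := by rw [e2, inv_mul_cancel_left]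
          have h9 : c⁻¹ * d = r q' * d * (r q')⁻¹ := by rw [← h8]; simp [mul_assoc]
          rw [h9]; simp [mul_assoc]
        show d * ((r q')⁻¹ * r q) = (r q')⁻¹ * r q * d
        rw [← mul_assoc, e3, mul_assoc, mul_assoc, e1, h1]
        simp [mul_assoc]
      rw [← QuotientGroup.out_eq' q, ← QuotientGroup.out_eq' q']
      exact (QuotientGroup.eq.mpr (Subgroup.mem_subgroupOf.mpr hu)).symm)
    (fun b => AddMonoidHom.ext fun v => by
      show (ℓ : ℤ) • b v = 0
      rw [natCast_zsmul]; exact h.hE _)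
    (fun q c hc0 => by
      obtain ⟨v, hv⟩ : ∃ v : V, v ≠ 0 := by
        by_contra hne
        push Not at hne
        exact h.hz.ne_one (by rw [← h.hx, show x = 1 from FaithfulSMul.eq_of_smul_eq_smul fun v : V => by
          rw [hne v]; simp, orderOf_one])
      have h1 : c • (r q • ((r q)⁻¹ • v)) = 0 := DFunLike.congr_fun hc0 ((r q)⁻¹ • v)
      rw [smul_inv_smul] at h1
      haveI := Fact.mk h.hℓ
      have h2 : addOrderOf v = ℓ := addOrderOf_eq_prime (h.hE v) hv
      rw [← h2]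
      exact addOrderOf_dvd_iff_zsmul_eq_zero.mpr h1)
  have hQle : 2 ^ 0 ≤ Nat.card Q ∧ Nat.card Q ≤ n * n := by
    refine ⟨Nat.card_pos, ?_⟩
    have hinj : Function.Injective fun c : Q → Fin ℓ => ∑ q, ((c q : ℕ) : ℤ) • E (r q) := by
      intro c c' hcc
      funext q
      have h1 := hindep Finset.univ (fun q => ((c q : ℕ) : ℤ) - ((c' q : ℕ) : ℤ)) (by
        simp only [sub_smul, Finset.sum_sub_distrib]
        exact sub_eq_zero.mpr hcc) q (Finset.mem_univ q)
      have := (c q).2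
      have := (c' q).2
      refine Fin.ext ?_
      have := Int.eq_zero_of_abs_lt_dvd h1 (abs_lt.mpr ⟨by omega, by omega⟩)
      omega
    haveI : Finite (AddMonoid.End V) := Finite.of_injective (fun c : V →+ V => (c : V → V)) DFunLike.coe_injective
    have h1 := (Nat.card_le_card_of_injective _ hinj).trans (card_endo_le h)
    rw [Nat.card_fun, Nat.card_eq_fintype_card (α := Fin ℓ), Fintype.card_fin] at h1
    exact (Nat.pow_le_pow_iff_right h.hℓ.one_lt).mp h1
  -- a free action outside `Z`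
  set Y := Subgroup.zpowers y
  let T := {d : L // d ∈ D ∧ d ∉ Z}
  letI : MulAction Y T :=
    { smul := fun g t => ⟨(g : L) * t.1 * (g : L)⁻¹,
        (Subgroup.mem_normalizer_iff.mp ((Subgroup.zpowers_le.mpr hyD) g.2) t.1).mp t.2.1,
        fun hz' => t.2.2 ((Subgroup.mem_normalizer_iff.mp ((Subgroup.zpowers_le.mpr hyZ) g.2) t.1).mpr hz')⟩
      one_smul := fun t => Subtype.ext (by
        show ((1 : Y) : L) * t.1 * ((1 : Y) : L)⁻¹ = t.1
        simp)
      mul_smul := fun a b t => Subtype.ext (by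
        show ((a * b : Y) : L) * t.1 * ((a * b : Y) : L)⁻¹ = (a : L) * ((b : L) * t.1 * (b : L)⁻¹) * (a : L)⁻¹
        simp [mul_assoc]) }
  have hfree : ∀ t : T, stabilizer Y t = ⊥ := by
    intro t
    by_contra hne
    have hdvd : z ∣ Nat.card (stabilizer Y t) := by
      have h1 : Nat.card (stabilizer Y t) ∣ z ^ i := by
        rw [← hy, ← Nat.card_zpowers]; exact Subgroup.card_subgroup_dvd_card _
      obtain ⟨j, -, hj⟩ := (Nat.dvd_prime_pow h.hz).mp h1
      rcases j with _ | j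
      · exact absurd (Subgroup.card_eq_one.mp (by rw [hj, pow_zero])) hne
      · exact hj ▸ dvd_pow_self z j.succ_ne_zero
    obtain ⟨g, hg⟩ := exists_prime_orderOf_dvd_card' z hdvd
    have hgo : orderOf ((g : Y) : L) = z := by rw [Subgroup.orderOf_coe, Subgroup.orderOf_coe, hg]
    have hsame : Subgroup.zpowers ((g : Y) : L) = X := by
      rw [hX, zpowers_eq_of_orderOf h.hz hy hxy h.hx, zpowers_eq_of_orderOf h.hz hy (g : Y).2 hgo]
    refine t.2.2 ⟨t.2.1, Subgroup.mem_centralizer_iff.mpr fun u hu => ?_⟩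
    rw [SetLike.mem_coe, ← hsame] at hu
    obtain ⟨e, rfl⟩ := hu
    have h4 : ((g : Y) : L) * t.1 * ((g : Y) : L)⁻¹ = t.1 := congrArg Subtype.val g.2
    exact (Commute.zpow_left (mul_inv_eq_iff_eq_mul.mp h4) e).eq
  have hTcard : z ^ i ∣ Nat.card T := by
    have e := MulAction.selfEquivOrbitsQuotientProd (G := Y) (X := T) hfree
    rw [Nat.card_congr e, Nat.card_prod, Nat.card_zpowers, hy]
    exact dvd_mul_left _ _
  have hsplit : Nat.card T = Nat.card Z * (Nat.card Q - 1) := by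
    have h1 : Nat.card Q * Nat.card Z = Nat.card D := by
      rw [← Nat.card_congr (Subgroup.subgroupOfEquivOfLe hZD).toEquiv]
      exact ((Z.subgroupOf D).card_eq_card_quotient_mul_card_subgroup).symm
    have h2 : Nat.card T + Nat.card Z = Nat.card D := by
      rw [← Nat.card_sum]
      refine Nat.card_congr
        { toFun := Sum.elim (fun t => ⟨t.1, t.2.1⟩) (fun c => ⟨c.1, hZD c.2⟩)
          invFun := fun d => if hd : (d : L) ∈ Z then Sum.inr ⟨d, hd⟩ else Sum.inl ⟨d, d.2, hd⟩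
          left_inv := ?_
          right_inv := ?_ }
      · rintro (t | c)
        · simp [t.2.2]
        · simp
      · intro d
        by_cases hd : (d : L) ∈ Z <;> simp [hd]
    rw [Nat.mul_sub, mul_one, mul_comm, h1]
    omega
  obtain ⟨a, ha⟩ := IsPGroup.iff_card.mp (hD2.to_le hZD)
  have hdiv : z ^ i ∣ Nat.card Q - 1 := by
    refine Nat.Coprime.dvd_of_dvd_mul_left ?_ (hsplit ▸ hTcard)
    rw [ha]
    exact Nat.Coprime.pow _ _ ((Nat.coprime_primes h.hz Nat.prime_two).mpr hz2)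
  obtain ⟨w, hw⟩ : ∃ w, Nat.card Q = 2 ^ w := by
    obtain ⟨j, hj⟩ := IsPGroup.iff_card.mp hD2
    have h1 : Nat.card Q ∣ 2 ^ j := by
      rw [← hj, (Z.subgroupOf D).card_eq_card_quotient_mul_card_subgroup]
      exact dvd_mul_right _ _
    obtain ⟨w, -, hw⟩ := (Nat.dvd_prime_pow Nat.prime_two).mp h1
    exact ⟨w, hw⟩
  have hQ1 : 2 ≤ Nat.card Q := by
    by_contra hlt
    have h1 : (Z.subgroupOf D).index = 1 := by
      show Nat.card Q = 1
      have := Nat.card_pos (α := Q)
      omega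
    exact hDc (fun d hd => (Subgroup.mem_inf.mp (Subgroup.mem_subgroupOf.mp
      ((Subgroup.index_eq_one.mp h1).symm ▸ Subgroup.mem_top (⟨d, hd⟩ : D)) : d ∈ Z)).2)
  have hw0 : 0 < w := Nat.pos_of_ne_zero fun h0 => by rw [hw, h0, pow_zero] at hQ1; omega
  rcases hbig with hbig | hbig
  · exact fermat_contradiction hzm hbig hw0 (hw ▸ (dvd_pow_self z (fun h0 => by
      rw [h0, pow_zero, orderOf_eq_one_iff] at hy
      replace hxy : x ∈ Subgroup.zpowers y := hxy; rw [hy, Subgroup.zpowers_one_eq_bot, Subgroup.mem_bot] at hxy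
      exact h.hz.ne_one (by rw [← h.hx, hxy, orderOf_one]))).trans hdiv) (hw ▸ hQle.2)
  · have h1 : z ^ i ≤ Nat.card Q - 1 := Nat.le_of_dvd (by omega) hdiv
    have h2 : z * z ≤ z ^ i := (pow_two z).symm ▸ Nat.pow_le_pow_right h.hz.pos hbig
    have h3 : n * n ≤ z * z := Nat.mul_self_le_mul_self (by omega)
    have := hQle.2
    omega

end Cfsg.Agent.H44.Palfy
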