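import Cfsg.Agent.H44.Palfy.Count
import Cfsg.Agent.H44.Palfy.TwoGroup
import Cfsg.Agent.S4345
import Cfsg.Agent.Arith.LargePrimDiv
import Cfsg.Agent.Cores.Fitting
import Cfsg.Agent.CharInduce.Correspondence
import Cfsg.Agent.CharInduce.CoprimeExt
import Cfsg.Agent.H84.ItoSylow
import Mathlib.RingTheory.RootsOfUnity.Complex

/-!
A solvable linear group in which every non-zero point is fixed by exactly one Sylow subgroup, for two primes,
has an irreducible character of degree divisible by both.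
-/

set_option autoImplicit false
set_option linter.style.haveILetI false
set_option linter.unusedSectionVars false

namespace Cfsg.Agent.H44.Palfy

open Cfsg MulAction Cfsg.Agent Cfsg.Agent.CharInduce Cfsg.Agent.CharBasic

universe u v

variable {L : Type u} {V : Type v} [Group L] [Finite L] [AddCommGroup V] [Finite V] [DistribMulAction L V]
  [FaithfulSMul L V] {x : L} {z ℓ n s t : ℕ}

theorem pCore_eq_bot_of_uniqueFix [Fact s.Prime] (h : UniqueFix V s L) : pCore s L = ⊥ := by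
  refine (Subgroup.eq_bot_iff_forall _).mpr fun g hg => FaithfulSMul.eq_of_smul_eq_smul fun v : V => ?_
  rw [one_smul]
  rcases eq_or_ne v 0 with rfl | hv
  · exact smul_zero g
  · obtain ⟨Q, hQ, -⟩ := h v hv
    exact hQ g (Cores.pCore_le_sylow Q hg)

omit [FaithfulSMul L V] [DistribMulAction L V] [Finite L] [Group L] in
theorem exists_card_fixed_pow {ℓ n : ℕ} (hℓ : ℓ.Prime) (hcard : Nat.card V = ℓ ^ n) (W : AddSubgroup V) :
    ∃ d, d ≤ n ∧ Nat.card W = ℓ ^ d := by
  have h1 := W.card_addSubgroup_dvd_card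
  rw [hcard] at h1
  exact (Nat.dvd_prime_pow hℓ).mp h1

/-- Arithmetic of the number of Sylow subgroups. -/
theorem sylow_count [Fact s.Prime] (hℓ : ℓ.Prime) (hcard : Nat.card V = ℓ ^ n) (hsL : s ∣ Nat.card L)
    (h : UniqueFix V s L) :
    ∃ d, 0 < d ∧ d < n ∧ Nat.card (Sylow s L) * (ℓ ^ d - 1) = ℓ ^ n - 1 ∧ 2 ≤ Nat.card (Sylow s L) ∧
      (s = ℓ ∨ 3 ≤ n) ∧ Nat.card (Sylow s L) ∣ Nat.card L := by
  obtain ⟨P⟩ := (inferInstance : Nonempty (Sylow s L))
  have hP : (P : Subgroup L) ≠ ⊥ := fun h0 => P.not_dvd_index (by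
    rw [h0, Subgroup.index_bot]; exact hsL)
  obtain ⟨g, hg, hg1⟩ := Subgroup.ne_bot_iff_exists_ne_one.mp hP |> fun ⟨g, hg⟩ => (⟨g.1, g.2, fun h1 => hg
    (Subtype.ext h1)⟩ : ∃ g, g ∈ (P : Subgroup L) ∧ g ≠ 1)
  have hk : 2 ≤ Nat.card (Sylow s L) := by
    by_contra hlt
    have h1 : Nat.card (Sylow s L) = 1 := by have := Nat.card_pos (α := Sylow s L); omega
    haveI := (Nat.card_eq_one_iff_unique.mp h1).1
    exact hg1 (FaithfulSMul.eq_of_smul_eq_smul fun v : V => by
      rw [one_smul]; exact smul_eq_of_subsingleton h P hg v)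
  have heq := card_sylow_mul h P
  obtain ⟨d, hdn, hd⟩ := exists_card_fixed_pow hℓ hcard (fixSet V (P : Subgroup L))
  rw [hd, hcard] at heq
  have hn : 0 < n := Nat.pos_of_ne_zero fun h0 => hg1 (FaithfulSMul.eq_of_smul_eq_smul fun v : V => by
    rw [h0, pow_zero] at hcard
    haveI := (Nat.card_eq_one_iff_unique.mp hcard).1
    exact Subsingleton.elim _ _)
  have hd0 : 0 < d := Nat.pos_of_ne_zero fun h0 => by
    rw [h0, pow_zero, Nat.sub_self, mul_zero] at heq
    have := Nat.one_lt_pow hn.ne' hℓ.one_lt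
    omega
  obtain ⟨hlt, hdvd, -⟩ := pow_dvd_pred hℓ.two_le hk heq hd0
  refine ⟨d, hd0, hlt, heq, hk, ?_, (P.card_dvd_index).trans (Subgroup.index_dvd_card _)⟩
  by_cases h3 : 3 ≤ n
  · exact Or.inr h3
  left
  obtain rfl : n = 2 := by omega
  obtain rfl : d = 1 := by omega
  rw [pow_one] at heq
  have hl := hℓ.two_le
  have hk1 : Nat.card (Sylow s L) = ℓ + 1 := by
    refine Nat.eq_of_mul_eq_mul_right (show 0 < ℓ - 1 by omega) ?_
    rw [heq]
    simpa using Nat.sq_sub_sq ℓ 1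
  have hmod := card_sylow_modEq_one s L
  rw [hk1] at hmod
  have : s ∣ ℓ := by simpa using (Nat.modEq_iff_dvd' (by omega)).mp hmod.symm
  exact (Nat.prime_dvd_prime_iff_eq Fact.out hℓ).mp this

omit [AddCommGroup V] [Finite V] [DistribMulAction L V] [FaithfulSMul L V] in
/-- Each primary part of the number of Sylow subgroups is congruent to one. -/
theorem dvd_part_pred [Group.IsSolvable L] [Fact s.Prime] {q e c : ℕ} (hq : q.Prime) (hc : ¬ q ∣ c)
    (h : Nat.card (Sylow s L) = q ^ e * c) : s ∣ q ^ e - 1 := by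
  have h1 : (Nat.card (Sylow s L)).factorization q = e := by
    have hc0 : c ≠ 0 := fun h0 => hc (h0 ▸ dvd_zero q)
    rw [h, Nat.factorization_mul (pow_ne_zero _ hq.ne_zero) hc0, Finsupp.add_apply,
      hq.factorization_pow, Finsupp.single_eq_same, Nat.factorization_eq_zero_of_not_dvd hc, add_zero]
  have h2 := S4345.modEq_one s q hq _ L le_rfl inferInstance
  rw [h1] at h2
  exact (Nat.modEq_iff_dvd' (Nat.one_le_pow _ _ hq.pos)).mp h2.symm

omit [AddCommGroup V] [Finite V] [DistribMulAction L V] [FaithfulSMul L V] in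
theorem eq_two_of_small [Group.IsSolvable L] [Fact s.Prime] {d : ℕ} (hd : 0 < d) (hd6 : d < 6)
    (h : Nat.card (Sylow s L) * (2 ^ d - 1) = 2 ^ 6 - 1) : s = 2 := by
  have hs : s.Prime := Fact.out
  interval_cases d <;> norm_num at h
  · have := dvd_part_pred (c := 9) (e := 1) (s := s) (L := L) (q := 7) (by norm_num) (by norm_num) (by omega)
    have := dvd_part_pred (c := 7) (e := 2) (s := s) (L := L) (q := 3) (by norm_num) (by norm_num) (by omega)
    norm_num at *
    have : s ∣ 2 := by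
      have h6 : s ∣ Nat.gcd 6 8 := Nat.dvd_gcd (by assumption) (by assumption)
      norm_num at h6
      exact h6
    exact (Nat.prime_dvd_prime_iff_eq hs Nat.prime_two).mp this
  · have := dvd_part_pred (c := 7) (e := 1) (s := s) (L := L) (q := 3) (by norm_num) (by norm_num) (by omega)
    norm_num at this
    exact (Nat.prime_dvd_prime_iff_eq hs Nat.prime_two).mp this
  · have := dvd_part_pred (c := 1) (e := 2) (s := s) (L := L) (q := 3) (by norm_num) (by norm_num) (by omega)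
    norm_num at this
    exact (Nat.prime_dvd_prime_iff_eq hs Nat.prime_two).mp (hs.dvd_of_dvd_pow (show s ∣ 2 ^ 3 by norm_num; exact this))
  all_goals omega

omit [AddCommGroup V] [Finite V] [DistribMulAction L V] [FaithfulSMul L V] in
theorem false_of_three_four [Group.IsSolvable L] [Fact s.Prime] {d : ℕ} (hd : 0 < d) (hd4 : d < 4)
    (h : Nat.card (Sylow s L) * (3 ^ d - 1) = 3 ^ 4 - 1) : False := by
  have hs : s.Prime := Fact.out
  interval_cases d <;> norm_num at h
  · have h5 := dvd_part_pred (c := 8) (e := 1) (s := s) (L := L) (q := 5) (by norm_num) (by norm_num) (by omega)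
    have h8 := dvd_part_pred (c := 5) (e := 3) (s := s) (L := L) (q := 2) (by norm_num) (by norm_num) (by omega)
    norm_num at h5 h8
    have := (Nat.prime_dvd_prime_iff_eq hs (by norm_num)).mp h8
    subst this
    norm_num at h5
  · have h2 := dvd_part_pred (c := 5) (e := 1) (s := s) (L := L) (q := 2) (by norm_num) (by norm_num) (by omega)
    norm_num at h2
    exact hs.ne_one h2
  all_goals omega

/-- A group of order `z ^ 2` containing no other `z`-structure is cyclic. -/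
theorem exists_orderOf_sq (hz : z.Prime) (hℓ : ℓ.Prime) (hE : ∀ v : V, ℓ • v = 0)
    (hcard : Nat.card V = ℓ ^ n) (hzℓ : z ≠ ℓ) (hprim : ∀ f : ℕ, 0 < f → f < n → ¬ z ∣ ℓ ^ f - 1)
    (h2 : z ^ 2 ∣ Nat.card L) : ∃ y : L, orderOf y = z ^ 2 := by
  haveI := Fact.mk hz
  obtain ⟨P, hP⟩ := Sylow.exists_subgroup_card_pow_prime z h2
  haveI : Nontrivial P := Finite.one_lt_card_iff_nontrivial.mp (by
    rw [hP]; exact Nat.one_lt_pow two_ne_zero hz.one_lt)
  have hZ := (IsPGroup.of_card hP).center_nontrivial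
  have hdvd : z ∣ Nat.card (Subgroup.center P) := by
    have h3 := Subgroup.card_subgroup_dvd_card (Subgroup.center P)
    rw [hP] at h3
    obtain ⟨j, -, hj⟩ := (Nat.dvd_prime_pow hz).mp h3
    rw [hj]
    refine dvd_pow_self z fun h0 => ?_
    have := Finite.one_lt_card (α := Subgroup.center P)
    rw [hj, h0, pow_zero] at this
    omega
  obtain ⟨c, hc⟩ := exists_prime_orderOf_dvd_card' z hdvd
  have hx : orderOf ((c : P) : L) = z := by rw [Subgroup.orderOf_coe, Subgroup.orderOf_coe, hc]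
  have h : Prim ((c : P) : L) z ℓ n V := ⟨hz, hℓ, hE, hcard, hx, hzℓ, hprim⟩
  haveI : IsCyclic P := h.isCyclic P fun g hg =>
    congrArg Subtype.val ((Subgroup.mem_center_iff.mp c.2) ⟨g, hg⟩)
  obtain ⟨g, hg⟩ := IsCyclic.exists_ofOrder_eq_natCard (α := P)
  exact ⟨g, by rw [Subgroup.orderOf_coe, hg, hP]⟩

/-- The element of primitive prime order, with the two-groups it normalises. -/
theorem exists_prim [Group.IsSolvable L] [Fact s.Prime] [Fact t.Prime] (hℓ : ℓ.Prime)
    (hE : ∀ v : V, ℓ • v = 0) (hcard : Nat.card V = ℓ ^ n) (hst : s ≠ t)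
    (hsL : s ∣ Nat.card L) (htL : t ∣ Nat.card L) (hs : UniqueFix V s L) (ht : UniqueFix V t L) :
    ∃ z : ℕ, ∃ x : L, Prim x z ℓ n V ∧
      (ℓ ≠ 2 → ∀ U : Subgroup L, IsPGroup 2 U → U.Normal → ∀ g ∈ U, Commute x g) := by
  obtain ⟨d, hd0, hdn, heq, hk, h3, hkL⟩ := sylow_count hℓ hcard hsL hs
  obtain ⟨d', hd0', hdn', heq', -, h3', -⟩ := sylow_count hℓ hcard htL ht
  have hn : 3 ≤ n := by
    rcases h3 with rfl | h3
    · rcases h3' with rfl | h3'
      · exact absurd rfl hst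
      · exact h3'
    · exact h3
  have h26 : ¬ (ℓ = 2 ∧ n = 6) := by
    rintro ⟨rfl, rfl⟩
    exact hst ((eq_two_of_small hd0 hdn heq).trans (eq_two_of_small hd0' hdn' heq').symm)
  have h34 : ¬ (ℓ = 3 ∧ n = 4) := by
    rintro ⟨rfl, rfl⟩
    exact false_of_three_four hd0 hdn heq
  have hkey : ∀ z : ℕ, z.Prime → z ∣ ℓ ^ n - 1 → (∀ f, 0 < f → f < n → ¬ z ∣ ℓ ^ f - 1) →
      z ≠ ℓ ∧ n + 1 ≤ z ∧ z ∣ Nat.card L ∧ (z ^ 2 ∣ ℓ ^ n - 1 → z ^ 2 ∣ Nat.card L) := by
    intro z hz hzn hp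
    haveI := Fact.mk hz
    have ho : orderOf (ℓ : ZMod z) = n := ((Arith.isPPD_iff hℓ.pos (by omega)).mp ⟨hz, hzn, hp⟩).2
    have hzℓ : z ≠ ℓ := by
      rintro rfl
      rw [ZMod.natCast_self] at ho
      rw [orderOf_eq_zero (by
        rw [isOfFinOrder_iff_pow_eq_one]
        rintro ⟨m, hm, h0⟩
        rw [zero_pow hm.ne'] at h0
        exact zero_ne_one h0)] at ho
      omega
    have hne : (ℓ : ZMod z) ≠ 0 := by
      rw [Ne, ZMod.natCast_eq_zero_iff, Nat.prime_dvd_prime_iff_eq hz hℓ]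
      exact hzℓ
    have h1 : n ∣ z - 1 := ho ▸ ZMod.orderOf_dvd_card_sub_one hne
    have h2 := Nat.le_of_dvd (by have := hz.two_le; omega) h1
    have h4 := hp d hd0 hdn
    refine ⟨hzℓ, by omega, ?_, fun h5 => ?_⟩
    · rw [← heq] at hzn
      exact ((hz.dvd_mul.mp hzn).resolve_right h4).trans hkL
    · rw [← heq] at h5
      exact ((Nat.Coprime.pow_left 2 (hz.coprime_iff_not_dvd.mpr h4)).dvd_of_dvd_mul_right h5).trans hkL
  rcases eq_or_ne ℓ 2 with rfl | hℓ2
  · obtain ⟨z, hz, hzn, hp⟩ := Arith.exists_isPPD (a := 2) (n := n) one_lt_two (by omega)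
      (fun h => h26 ⟨rfl, h.2⟩) (fun h => by omega)
    obtain ⟨hzℓ, -, hzL, -⟩ := hkey z hz hzn hp
    haveI := Fact.mk hz
    obtain ⟨x, hx⟩ := exists_prime_orderOf_dvd_card' z hzL
    exact ⟨z, x, ⟨hz, hℓ, hE, hcard, hx, hzℓ, hp⟩, fun h => absurd rfl h⟩
  by_cases hex : (ℓ = 3 ∨ ℓ = 5) ∧ n = 6
  · have hzn : 7 ∣ ℓ ^ n - 1 := by rcases hex with ⟨rfl | rfl, rfl⟩ <;> norm_num
    have hp : ∀ f, 0 < f → f < n → ¬ 7 ∣ ℓ ^ f - 1 := by
      intro f hf0 hfn
      rcases hex with ⟨rfl | rfl, rfl⟩ <;> interval_cases f <;> norm_num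
    obtain ⟨hzℓ, -, hzL, -⟩ := hkey 7 (by norm_num) hzn hp
    haveI : Fact (Nat.Prime 7) := ⟨by norm_num⟩
    obtain ⟨x, hx⟩ := exists_prime_orderOf_dvd_card' 7 hzL
    have h : Prim x 7 ℓ n V := ⟨Fact.out, hℓ, hE, hcard, hx, hzℓ, hp⟩
    refine ⟨7, x, h, fun _ U hU hUn => h.commute U (fun k hk => hUn.conj_mem k hk x) fun r hr hrd => ?_⟩
    obtain ⟨a, ha⟩ := IsPGroup.iff_card.mp hU
    obtain rfl : r = 2 := (Nat.prime_dvd_prime_iff_eq hr Nat.prime_two).mp (hr.dvd_of_dvd_pow (ha ▸ hrd))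
    refine ⟨Ne.symm hℓ2, by norm_num, Or.inl ?_⟩
    rintro ⟨-, m, -, hm⟩
    rcases lt_or_ge m 3 with h4 | h4
    · interval_cases m <;> norm_num at hm
    · have := Nat.pow_le_pow_right (show 0 < 2 by norm_num) h4
      omega
  obtain ⟨z, hz, hzn, hp, hbig⟩ := Arith.exists_large_ppd (q := ℓ) (n := n) hℓ.two_le (by omega)
    (fun h => by omega) (fun h => hℓ2 h.1)
    (by rintro ⟨rfl, rfl | rfl⟩
        · exact h34 ⟨rfl, rfl⟩
        · exact hex ⟨Or.inl rfl, rfl⟩)
    (by rintro ⟨rfl, rfl⟩; exact hex ⟨Or.inr rfl, rfl⟩)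
  have hp' : ∀ f, 0 < f → f < n → ¬ z ∣ ℓ ^ f - 1 := fun f hf => hp f hf
  obtain ⟨hzℓ, hnz, hzL, hzL2⟩ := hkey z hz hzn hp'
  haveI := Fact.mk hz
  have hz2 : z ≠ 2 := by omega
  obtain ⟨y, i, hy, hi, hbig'⟩ : ∃ (y : L) (i : ℕ), orderOf y = z ^ i ∧ 1 ≤ i ∧ (n + 1 < z ∨ 2 ≤ i) := by
    rcases hbig with hb | hb
    · obtain ⟨y, hy⟩ := exists_prime_orderOf_dvd_card' z hzL
      exact ⟨y, 1, by rw [hy, pow_one], le_rfl, Or.inl hb⟩
    · obtain ⟨y, hy⟩ := exists_orderOf_sq hz hℓ hE hcard hzℓ hp' (hzL2 hb)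
      exact ⟨y, 2, hy, by norm_num, Or.inr le_rfl⟩
  have hx : orderOf (y ^ z ^ (i - 1)) = z := by
    rw [orderOf_pow_of_dvd (pow_ne_zero _ hz.ne_zero) (hy ▸ pow_dvd_pow z (Nat.sub_le i 1)), hy,
      Nat.pow_div (Nat.sub_le i 1) hz.pos, show i - (i - 1) = 1 by omega, pow_one]
  have h : Prim (y ^ z ^ (i - 1)) z ℓ n V := ⟨hz, hℓ, hE, hcard, hx, hzℓ, hp'⟩
  exact ⟨z, _, h, fun _ U hU hUn => h.commute_two hℓ2 hz2 hnz y i hy ⟨(z ^ (i - 1) : ℕ), zpow_natCast y _⟩
    hbig' U hU (by rw [Subgroup.normalizer_eq_top]; exact Subgroup.mem_top y)⟩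

/-- The main conclusion. -/
theorem linear_main [Group.IsSolvable L] [Fact s.Prime] [Fact t.Prime] (hℓ : ℓ.Prime)
    (hE : ∀ v : V, ℓ • v = 0) (hcard : Nat.card V = ℓ ^ n) (hst : s ≠ t)
    (hsL : s ∣ Nat.card L) (htL : t ∣ Nat.card L) (hs : UniqueFix V s L) (ht : UniqueFix V t L) :
    ∃ χ : IrrCharacter L, s * t ∣ charDegree (χ : L → ℂ) := by
  classical
  cases nonempty_fintype L
  haveI := Fact.mk hℓ
  obtain ⟨z, x, h, h2⟩ := exists_prim hℓ hE hcard hst hsL htL hs ht
  haveI := Fact.mk h.hz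
  have hcomm : ∀ u : Nat.Primes, pCore (u : ℕ) L ≤ Subgroup.centralizer {x} := by
    intro u g hg
    rw [Subgroup.mem_centralizer_singleton_iff]
    suffices hxg : Commute x g from hxg.eq.symm
    haveI := Fact.mk u.2
    by_cases huz : (u : ℕ) = z
    · have hxP : IsPGroup z (Subgroup.zpowers x) := IsPGroup.of_card (n := 1) (by
        rw [Nat.card_zpowers, h.hx, pow_one])
      have hUP : IsPGroup z (pCore (u : ℕ) L ⊔ Subgroup.zpowers x : Subgroup L) := by
        have hcp : IsPGroup z (pCore (u : ℕ) L) := huz ▸ Cores.pCore_isPGroup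
        exact hcp.to_sup_of_normal_left hxP
      obtain ⟨P, hP⟩ := hUP.exists_le_sylow
      haveI : Nontrivial P := Finite.one_lt_card_iff_nontrivial.mp (by
        have := Subgroup.card_le_of_le (le_sup_right.trans hP : Subgroup.zpowers x ≤ P)
        rw [Nat.card_zpowers, h.hx] at this
        exact lt_of_lt_of_le h.hz.one_lt this)
      have := P.2.center_nontrivial
      have hdvd : z ∣ Nat.card (Subgroup.center P) := by
        obtain ⟨j, hj⟩ := IsPGroup.iff_card.mp (P.2.to_subgroup (Subgroup.center P))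
        rw [hj]
        refine dvd_pow_self z fun h0 => ?_
        have := Finite.one_lt_card (α := Subgroup.center P)
        rw [hj, h0, pow_zero] at this
        omega
      obtain ⟨c, hc⟩ := exists_prime_orderOf_dvd_card' z hdvd
      have hc' : orderOf ((c : P) : L) = z := by rw [Subgroup.orderOf_coe, Subgroup.orderOf_coe, hc]
      have hP' : Prim ((c : P) : L) z ℓ n V := ⟨h.hz, hℓ, hE, hcard, hc', h.hzℓ, h.hprim⟩
      haveI : IsCyclic P := hP'.isCyclic (P : Subgroup L) fun g hg =>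
        congrArg Subtype.val ((Subgroup.mem_center_iff.mp c.2) ⟨g, hg⟩)
      letI := IsCyclic.commGroup (α := P)
      exact congrArg Subtype.val (mul_comm (⟨x, hP (le_sup_right (a := pCore (u : ℕ) L) (Subgroup.mem_zpowers x))⟩ : P)
        ⟨g, hP (le_sup_left (b := Subgroup.zpowers x) hg)⟩)
    by_cases huℓ : (u : ℕ) = ℓ
    · let W : AddSubgroup V := fixSet V (pCore (u : ℕ) L)
      have hmod : Nat.card V ≡ Nat.card W [MOD ℓ] := by
        have hP : IsPGroup ℓ (pCore (u : ℕ) L) := huℓ ▸ Cores.pCore_isPGroup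
        have h1 := hP.card_modEq_card_fixedPoints V
        rwa [show Nat.card W = Nat.card (fixedPoints (pCore (u : ℕ) L) V) from
          Nat.card_congr (Equiv.subtypeEquivRight fun v =>
            ⟨fun hv m => hv m.1 m.2, fun hv m hm => hv ⟨m, hm⟩⟩)]
      rcases h.eq_bot_or_top W (fun v hv a ha => by
        have ha' : x⁻¹ * a * x ∈ pCore (u : ℕ) L := by
          simpa using (inferInstance : (pCore (u : ℕ) L).Normal).conj_mem a ha x⁻¹
        have h4 := congrArg (x • ·) (hv _ ha')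
        simp only [← mul_smul] at h4
        rw [← mul_smul]
        convert h4 using 2
        group) with hW | hW
      · exfalso
        rw [hW, AddSubgroup.card_bot, hcard] at hmod
        have hn : 0 < n := by
          obtain ⟨d, hd, hdn, -⟩ := sylow_count hℓ hcard hsL hs
          omega
        have : ℓ ∣ 1 := (hmod.dvd_iff dvd_rfl).mp (dvd_pow_self ℓ hn.ne')
        exact hℓ.ne_one (Nat.dvd_one.mp this)
      · have : g = 1 := FaithfulSMul.eq_of_smul_eq_smul fun v : V => by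
          rw [one_smul]
          exact (hW ▸ AddSubgroup.mem_top v : v ∈ W) g hg
        subst this
        exact Commute.one_right x
    by_cases hu2 : (u : ℕ) = 2
    · have hl2 : ℓ ≠ 2 := fun h0 => huℓ (hu2.trans h0.symm)
      exact h2 hl2 _ (hu2 ▸ Cores.pCore_isPGroup) inferInstance g hg
    · refine h.commute (pCore (u : ℕ) L) (fun k hk =>
        (inferInstance : (pCore (u : ℕ) L).Normal).conj_mem k hk x) (fun r hr hrd => ?_) g hg
      obtain ⟨a, ha⟩ := IsPGroup.iff_card.mp (Cores.pCore_isPGroup (p := (u : ℕ)) (G := L))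
      obtain rfl : r = u := (Nat.prime_dvd_prime_iff_eq hr u.2).mp (hr.dvd_of_dvd_pow (ha ▸ hrd))
      exact ⟨huℓ, huz, Or.inl fun hc => hu2 hc.1⟩
  set F := fittingSubgroup L with hFdef
  have hFx : ∀ g ∈ F, Commute g x := fun g hg => by
    rw [hFdef, Cores.iSup_pCore_eq_fittingSubgroup] at hg
    exact Subgroup.mem_centralizer_singleton_iff.mp ((iSup_le hcomm) hg)
  haveI : IsCyclic F := h.isCyclic F hFx
  haveI : F.Normal := Cores.fittingSubgroup_normal
  have hnd : ∀ (r : ℕ) [Fact r.Prime], UniqueFix V r L → ¬ r ∣ Nat.card F := by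
    intro r _ hr hrd
    obtain ⟨g, hg⟩ := exists_prime_orderOf_dvd_card' r hrd
    have hA : IsPGroup r (Subgroup.zpowers (g : L)) := IsPGroup.of_card (n := 1) (by
      rw [Nat.card_zpowers, Subgroup.orderOf_coe, hg, pow_one])
    have h1 := Cores.le_pCore_of_le_sup hA ((Subgroup.zpowers_le.mpr g.2).trans
      (by rw [hFdef, Cores.iSup_pCore_eq_fittingSubgroup]; exact Cores.iSup_pCore_le_sup r))
    rw [pCore_eq_bot_of_uniqueFix hr, le_bot_iff, Subgroup.zpowers_eq_bot] at h1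
    rw [← Subgroup.orderOf_coe, h1, orderOf_one] at hg
    exact (Fact.out : r.Prime).ne_one hg.symm
  have hidx : ∀ (r : ℕ) [Fact r.Prime], UniqueFix V r L → r ∣ Nat.card L → r ∣ F.index := by
    intro r _ hr hrL
    rw [← F.card_mul_index] at hrL
    exact ((Fact.out : r.Prime).dvd_mul.mp hrL).resolve_left (hnd r hr)
  haveI : NeZero (Nat.card F) := ⟨Nat.card_pos.ne'⟩
  haveI : IsCyclic (rootsOfUnity (Nat.card F) ℂ) := inferInstance
  let e : F ≃* rootsOfUnity (Nat.card F) ℂ := mulEquivOfCyclicCardEq (by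
    rw [Complex.card_rootsOfUnity])
  let lam : F →* ℂˣ := (rootsOfUnity (Nat.card F) ℂ).subtype.comp e.toMonoidHom
  have hlam : Function.Injective lam := fun a b hab => e.injective (Subtype.ext hab)
  let χ : F → ℂ := fun g => (lam g : ℂ)
  have hχ : IsIrrCharacter F χ := isIrrCharacter_hom lam
  have hI : inertia F χ = F := by
    refine le_antisymm (fun g hg => Cores.centralizer_fittingSubgroup_le ?_)
      (le_inertia F (CharBasic.IsIrr.isClassFunction hχ))
    rw [Subgroup.mem_centralizer_iff]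
    intro a ha
    have h1 := congrFun ((mem_inertia F).mp hg) ⟨a, ha⟩
    simp only [conjFun, χ] at h1
    have h2 := congrArg Subtype.val (hlam (Units.ext h1))
    exact (mul_inv_eq_iff_eq_mul.mp h2).symm
  let ψ : inertia F χ → ℂ := fun g => χ ⟨g.1, hI.le g.2⟩
  have hψ : IsIrrCharacter (inertia F χ) ψ :=
    isIrrCharacter_hom (lam.comp (Subgroup.inclusion hI.le))
  have hne : classInner (resTo F hI.ge ψ) χ ≠ 0 := by
    rw [show resTo F hI.ge ψ = χ from rfl, classInner_irr_self hχ]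
    exact one_ne_zero
  obtain ⟨hirr, -, -⟩ := clifford_correspondence F hχ hI.ge hψ hne
  refine ⟨⟨_, hirr⟩, ?_⟩
  have hdeg : indFun (inertia F χ) ψ 1 = ((F.index : ℕ) : ℂ) := by
    have h1 : ψ 1 = 1 := by
      show (lam (⟨(1 : L), _⟩ : F) : ℂ) = 1
      rw [show (⟨(1 : L), _⟩ : F) = 1 from rfl, map_one, Units.val_one]
    rw [indFun_one, h1, mul_one, hI]
  show s * t ∣ charDegree (indFun (inertia F χ) ψ)
  rw [H84.charDegree_of_eq hdeg]
  exact ((Nat.coprime_primes Fact.out Fact.out).mpr hst).mul_dvd_of_dvd_of_dvd (hidx s hs hsL) (hidx t ht htL)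

end Cfsg.Agent.H44.Palfy
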