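import Cfsg.Agent.H44.Palfy.Commutators

/-!
No three pairwise non-adjacent primes in the degree graph of a solvable group.
-/

set_option autoImplicit false
set_option linter.style.haveILetI false
set_option linter.unusedSectionVars false

namespace Cfsg.Agent.H44.Palfy

open Cfsg MulAction Cfsg.Agent Cfsg.Agent.CharInduce Cfsg.Agent.CharBasic

universe u

variable {G : Type u} [Group G] [Finite G] {r s t : ℕ} {R M K : Subgroup G} [R.Normal] [M.Normal]

theorem dvd_index_of_not_le {H : Type u} [Group H] [Finite H] {b : ℕ} [hb : Fact b.Prime] (Q : Sylow b H)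
    [(Q : Subgroup H).Normal] (I : Subgroup H) (hQ : ¬ (Q : Subgroup H) ≤ I) : b ∣ I.index := by
  by_contra hnd
  obtain ⟨P⟩ := (inferInstance : Nonempty (Sylow b I))
  have hPm : IsPGroup b ((P : Subgroup I).map I.subtype) := P.2.map _
  have hPi : ¬ b ∣ ((P : Subgroup I).map I.subtype).index := by
    rw [Subgroup.index_map_subtype]
    exact hb.out.not_dvd_mul P.not_dvd_index hnd
  haveI := Sylow.unique_of_normal Q inferInstance
  have e : hPm.toSylow hPi = Q := Subsingleton.elim _ _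
  refine hQ fun g hg => ?_
  have hg' : g ∈ ((hPm.toSylow hPi : Sylow b H) : Subgroup H) := by rw [e]; exact hg
  obtain ⟨q, -, rfl⟩ : g ∈ (P : Subgroup I).map I.subtype := hg'
  exact q.2

theorem NormalCase.sylow_ne_bot (h : NormalCase r s t R M K) {b : ℕ} [hb : Fact b.Prime] [hr : Fact r.Prime]
    (hrb : r ≠ b) (hnb : ∀ P : Sylow b G, ¬ (P : Subgroup G).Normal) (S : Sylow b K) :
    (S : Subgroup K) ≠ ⊥ := by
  intro h0
  have hPm : IsPGroup b ((S : Subgroup K).map K.subtype) := S.2.map _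
  have hPi : ¬ b ∣ ((S : Subgroup K).map K.subtype).index := by
    rw [Subgroup.index_map_subtype, h.isComplement.index_eq_card]
    refine hb.out.not_dvd_mul S.not_dvd_index fun hd => ?_
    obtain ⟨a, ha⟩ := IsPGroup.iff_card.mp h.hRp
    exact hrb ((Nat.prime_dvd_prime_iff_eq hb.out hr.out).mp (hb.out.dvd_of_dvd_pow (ha ▸ hd))).symm
  refine hnb (hPm.toSylow hPi) ?_
  show ((S : Subgroup K).map K.subtype).Normal
  rw [h0, Subgroup.map_bot]
  infer_instance

/-- `S` normal and centralising `M`. -/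
theorem NormalCase.false_of_centralize [Group.IsSolvable G] [hr : Fact r.Prime] [hs : Fact s.Prime]
    [ht : Fact t.Prime] (h : NormalCase r s t R M K) (hrs : r ≠ s) (hrt : r ≠ t) (hst : s ≠ t)
    (hno1 : ¬ Deg G (r * s)) (hno2 : ¬ Deg G (r * t)) (hno3 : ¬ Deg G (s * t))
    (hns : ∀ P : Sylow s G, ¬ (P : Subgroup G).Normal) (hnt : ∀ P : Sylow t G, ¬ (P : Subgroup G).Normal)
    (hfix : ∀ P : Sylow s K, ∀ g ∈ (P : Subgroup K), ∀ w : Lin M, g • w = w) : False := by
  obtain ⟨v, hv⟩ := Lin.exists_ne_zero h.commM h.hMne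
  obtain ⟨P0, -, hP0⟩ := h.uniqueFix_M hrs hno1 v hv
  haveI : Subsingleton (Sylow s K) :=
    ⟨fun A B => (hP0 A fun g hg => hfix A g hg v).trans (hP0 B fun g hg => hfix B g hg v).symm⟩
  obtain ⟨S⟩ := (inferInstance : Nonempty (Sylow s K))
  haveI : (S : Subgroup K).Normal := Sylow.normal_of_subsingleton S
  have hS := h.sylow_ne_bot hrs hns S
  by_cases hT : Subsingleton (Sylow t K)
  swap
  · exact h.false_of_not_normal hrs hst hno1 hno3 S hS (h.uniqueFix_M hrt hno2) hT
  obtain ⟨T⟩ := (inferInstance : Nonempty (Sylow t K))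
  haveI : (T : Subgroup K).Normal := Sylow.normal_of_subsingleton T
  have hT' := h.sylow_ne_bot hrt hnt T
  obtain ⟨α, hαS, hαT⟩ : ∃ α : Lin R,
      ¬ (S : Subgroup K) ≤ stabilizer K α ∧ ¬ (T : Subgroup K) ≤ stabilizer K α := by
    obtain ⟨a, g, hg, ha⟩ := h.exists_moved (S : Subgroup K) hS
    obtain ⟨b, g', hg', hb⟩ := h.exists_moved (T : Subgroup K) hT'
    have haS : ¬ (S : Subgroup K) ≤ stabilizer K a := fun hle => ha (hle hg)
    have hbT : ¬ (T : Subgroup K) ≤ stabilizer K b := fun hle => hb (hle hg')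
    by_cases haT : (T : Subgroup K) ≤ stabilizer K a
    swap
    · exact ⟨a, haS, haT⟩
    by_cases hbS : (S : Subgroup K) ≤ stabilizer K b
    swap
    · exact ⟨b, hbS, hbT⟩
    refine ⟨a + b, fun hle => ha ?_, fun hle => hb ?_⟩
    · have h1 : g • (a + b) = a + b := hle hg
      rw [smul_add, show g • b = b from hbS hg] at h1
      exact add_right_cancel h1
    · have h1 : g' • (a + b) = a + b := hle hg'
      rw [smul_add, show g' • a = a from haT hg'] at h1
      exact add_left_cancel h1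
  obtain ⟨χ, hχ⟩ := deg_above R (Lin.fn_isIrr α) (Lin.fn_one α)
  have hi : (stabilizer K α).index = (inertia R α.fn).index := by
    rw [Lin.stabilizer_subgroup_eq]
    exact index_subgroupOf_complement R K _ h.hsup (le_inertia R (IsIrr.isClassFunction (Lin.fn_isIrr α)))
  rw [mul_one, ← hi] at hχ
  exact hno3 ⟨χ, (((Nat.coprime_primes hs.out ht.out).mpr hst).mul_dvd_of_dvd_of_dvd
    (dvd_index_of_not_le S _ hαS) (dvd_index_of_not_le T _ hαT)).trans hχ⟩

theorem false_of_normalCase [Group.IsSolvable G] [hr : Fact r.Prime] [hs : Fact s.Prime]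
    [ht : Fact t.Prime] (h : NormalCase r s t R M K) (hrs : r ≠ s) (hrt : r ≠ t) (hst : s ≠ t)
    (hno1 : ¬ Deg G (r * s)) (hno2 : ¬ Deg G (r * t)) (hno3 : ¬ Deg G (s * t))
    (hns : ∀ P : Sylow s G, ¬ (P : Subgroup G).Normal) (hnt : ∀ P : Sylow t G, ¬ (P : Subgroup G).Normal) :
    False := by
  have h' : NormalCase r t s R M K :=
    ⟨h.hRp, h.hRi, h.hMR, h.hMc, h.hMne, h.hRM, h.hexp, h.hRK, h.hsup, h.hfaith⟩
  by_cases hS : ∀ P : Sylow s K, ∀ g ∈ (P : Subgroup K), ∀ w : Lin M, g • w = w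
  · exact h.false_of_centralize hrs hrt hst hno1 hno2 hno3 hns hnt hS
  by_cases hT : ∀ P : Sylow t K, ∀ g ∈ (P : Subgroup K), ∀ w : Lin M, g • w = w
  · exact h'.false_of_centralize hrt hrs hst.symm hno2 hno1 (mul_comm s t ▸ hno3) hnt hns hT
  push Not at hS hT
  obtain ⟨n, hn⟩ := IsPGroup.iff_card.mp (h.hRp.to_le h.hMR : IsPGroup r M)
  have hdeg : Deg K (s * t) := linear_image hr.out (fun w => Lin.card_pow h.hexp w)
    (by rw [Lin.card_eq h.commM, hn]) hst (h.uniqueFix_M hrs hno1) (h.uniqueFix_M hrt hno2) hS hT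
  apply hno3
  have hbij : Function.Bijective ((QuotientGroup.mk' R).comp K.subtype) := by
    refine ⟨(injective_iff_map_eq_one _).mpr fun k hk => ?_, fun x => ?_⟩
    · have h1 : (k : G) ∈ R ⊓ K := ⟨(QuotientGroup.eq_one_iff (k : G)).mp hk, k.2⟩
      rw [h.hRK, Subgroup.mem_bot] at h1
      exact Subtype.ext h1
    · obtain ⟨g, rfl⟩ := QuotientGroup.mk'_surjective R x
      obtain ⟨m, hm, k, hk, rfl⟩ := Subgroup.mem_sup_of_normal_left.mp (h.hsup ▸ Subgroup.mem_top g)
      refine ⟨⟨k, hk⟩, ?_⟩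
      show QuotientGroup.mk' R k = QuotientGroup.mk' R (m * k)
      rw [map_mul, show QuotientGroup.mk' R m = 1 from (QuotientGroup.eq_one_iff m).mpr hm, one_mul]
  let e := MulEquiv.ofBijective _ hbij
  exact hdeg.of_surjective (e.symm.toMonoidHom.comp (QuotientGroup.mk' R))
    (e.symm.surjective.comp (QuotientGroup.mk'_surjective R))

omit [R.Normal] [M.Normal] in
theorem false_of_normal_sylow [Group.IsSolvable G] [hr : Fact r.Prime] [hs : Fact s.Prime]
    [ht : Fact t.Prime] (hrs : r ≠ s) (hrt : r ≠ t) (hst : s ≠ t)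
    (hno1 : ¬ Deg G (r * s)) (hno2 : ¬ Deg G (r * t)) (hno3 : ¬ Deg G (s * t))
    (hr1 : Deg G r) (hs1 : Deg G s) (ht1 : Deg G t)
    (hq : ∀ N : Subgroup G, ∀ (_ : N.Normal), N ≠ ⊥ → ¬ Deg (G ⧸ N) r ∨ ¬ Deg (G ⧸ N) s ∨ ¬ Deg (G ⧸ N) t)
    (P : Sylow r G) (hP : (P : Subgroup G).Normal) : False := by
  haveI := hP
  have hnab : ∀ {b : ℕ} [Fact b.Prime] (Q : Sylow b G), (Q : Subgroup G).Normal → Deg G b →
      ¬ IsMulCommutative (Q : Subgroup G) :=
    fun Q hQ hd hab => not_deg_of_normal_abelian Q hQ hab hd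
  have hother : ∀ (b : ℕ) [Fact b.Prime], r ≠ b → ¬ Deg G (r * b) → Deg G b →
      ∀ Q : Sylow b G, ¬ (Q : Subgroup G).Normal := by
    intro b _ hrb hno hb Q hQ
    haveI := hQ
    refine hno (deg_of_disjoint (P : Subgroup G) (Q : Subgroup G) ?_
      (exists_nonlinear_dvd P.2 (hnab P hP hr1)) (exists_nonlinear_dvd Q.2 (hnab Q hQ hb)))
    refine Subgroup.inf_eq_bot_of_coprime ?_
    obtain ⟨a, ha⟩ := IsPGroup.iff_card.mp P.2
    obtain ⟨c, hc⟩ := IsPGroup.iff_card.mp Q.2
    rw [ha, hc]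
    exact Nat.Coprime.pow _ _ ((Nat.coprime_primes hr.out Fact.out).mpr hrb)
  have hns := hother s hrs hno1 hs1
  have hnt := hother t hrt hno2 ht1
  obtain ⟨M, K, hM, h⟩ := exists_normalCase hrs hrt hno1 hno2 P (hnab P hP hr1) hns hnt hq
  exact false_of_normalCase h hrs hrt hst hno1 hno2 hno3 hns hnt

theorem three_primes : ∀ (n : ℕ) (G : Type u) [Group G] [Finite G] [Group.IsSolvable G], Nat.card G ≤ n →
    ∀ (r s t : ℕ) [Fact r.Prime] [Fact s.Prime] [Fact t.Prime], r ≠ s → r ≠ t → s ≠ t →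
      Deg G r → Deg G s → Deg G t → Deg G (r * s) ∨ Deg G (r * t) ∨ Deg G (s * t) := by
  intro n
  induction n with
  | zero => intro G _ _ _ hn; exact absurd (Nat.le_zero.mp hn) Nat.card_pos.ne'
  | succ n ih =>
    intro G _ _ _ hn r s t _ _ _ hrs hrt hst hr hs ht
    by_contra hc
    push Not at hc
    obtain ⟨hno1, hno2, hno3⟩ := hc
    have hq : ∀ N : Subgroup G, ∀ (_ : N.Normal), N ≠ ⊥ →
        ¬ Deg (G ⧸ N) r ∨ ¬ Deg (G ⧸ N) s ∨ ¬ Deg (G ⧸ N) t := by
      intro N hN hne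
      haveI := hN
      by_contra hc'
      push Not at hc'
      have hlt := Hall.card_quotient_lt N hne
      rcases ih (G ⧸ N) (by omega) r s t hrs hrt hst hc'.1 hc'.2.1 hc'.2.2 with h | h | h
      · exact hno1 h.quotient
      · exact hno2 h.quotient
      · exact hno3 h.quotient
    have hq' : ∀ (a b c : ℕ), (∀ N : Subgroup G, ∀ (_ : N.Normal), N ≠ ⊥ →
        ¬ Deg (G ⧸ N) a ∨ ¬ Deg (G ⧸ N) b ∨ ¬ Deg (G ⧸ N) c) → ∀ N : Subgroup G, ∀ (_ : N.Normal), N ≠ ⊥ →
        ¬ Deg (G ⧸ N) b ∨ ¬ Deg (G ⧸ N) c ∨ ¬ Deg (G ⧸ N) a := fun a b c hh N hN hne => by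
      rcases hh N hN hne with h | h | h
      · exact Or.inr (Or.inr h)
      · exact Or.inl h
      · exact Or.inr (Or.inl h)
    have hsr : ¬ Deg G (s * r) := mul_comm r s ▸ hno1
    have htr : ¬ Deg G (t * r) := mul_comm r t ▸ hno2
    have hts : ¬ Deg G (t * s) := mul_comm s t ▸ hno3
    by_cases hR : ∃ P : Sylow r G, (P : Subgroup G).Normal
    · obtain ⟨P, hP⟩ := hR
      exact false_of_normal_sylow hrs hrt hst hno1 hno2 hno3 hr hs ht hq P hP
    by_cases hS : ∃ P : Sylow s G, (P : Subgroup G).Normal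
    · obtain ⟨P, hP⟩ := hS
      exact false_of_normal_sylow hst hrs.symm hrt.symm hno3 hsr htr hs ht hr (hq' r s t hq) P hP
    by_cases hT : ∃ P : Sylow t G, (P : Subgroup G).Normal
    · obtain ⟨P, hP⟩ := hT
      exact false_of_normal_sylow hrt.symm hst.symm hrs htr hts hno1 ht hr hs
        (hq' s t r (hq' r s t hq)) P hP
    push Not at hR hS hT
    haveI : Nontrivial G := by
      by_contra hnt
      haveI := not_nontrivial_iff_subsingleton.mp hnt
      obtain ⟨P⟩ := (inferInstance : Nonempty (Sylow r G))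
      exact hR P (by rw [Subgroup.eq_bot_of_subsingleton (P : Subgroup G)]; infer_instance)
    obtain ⟨M, hMn, hMne, -, hmin⟩ := Hall.exists_minimal_normal_le (⊤ : Subgroup G) top_ne_bot
    haveI := hMn
    rcases hq M hMn hMne with h | h | h
    · exact false_of_nonnormal hrs hrt hst hno1 hno2 hno3 hR hS hT M hMne hmin h
    · exact false_of_nonnormal hst hrs.symm hrt.symm hno3 hsr htr hS hT hR M hMne hmin h
    · exact false_of_nonnormal hrt.symm hst.symm hrs htr hts hno1 hT hR hS M hMne hmin h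

end Cfsg.Agent.H44.Palfy
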