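import Cfsg.Agent.H44.Palfy.Chars
import Cfsg.Agent.Hall.MinimalNormal

/-!
The case without a normal Sylow subgroup for the three primes.
-/

set_option autoImplicit false
set_option linter.style.haveILetI false
set_option linter.unusedSectionVars false

namespace Cfsg.Agent.H44.Palfy

open scoped commutatorElement
open Cfsg MulAction Cfsg.Agent Cfsg.Agent.CharInduce Cfsg.Agent.CharBasic

universe u

variable {G : Type u} [Group G] [Finite G]

theorem Lin.card_pow {N : Subgroup G} [N.Normal] {ℓ : ℕ} (hexp : ∀ x ∈ N, x ^ ℓ = 1) (v : Lin N) : ℓ • v = 0 := by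
  refine Lin.ext fun n => ?_
  rw [Lin.hom_nsmul, Lin.hom_zero, ← map_pow, show n ^ ℓ = 1 from Subtype.ext (hexp n n.2), map_one]

theorem Lin.exists_ne_zero {N : Subgroup G} [N.Normal] (hab : IsMulCommutative N) (hN : N ≠ ⊥) :
    ∃ v : Lin N, v ≠ 0 := by
  by_contra hc
  push Not at hc
  haveI : Subsingleton (Lin N) := ⟨fun a b => (hc a).trans (hc b).symm⟩
  have h := Lin.card_eq hab
  rw [Nat.card_unique] at h
  exact hN (Subgroup.card_eq_one.mp h.symm)

theorem Lin.eq_of_forall {N : Subgroup G} [N.Normal] (hab : IsMulCommutative N) {a b : N}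
    (h : ∀ v : Lin N, v.hom a = v.hom b) : a = b := by
  by_contra hne
  have hc : a * b⁻¹ ∉ commutator N := fun hmem => by
    have hbot : commutator N = ⊥ := by
      rw [commutator_def, Subgroup.commutator_eq_bot_iff_le_centralizer]
      exact fun x _ => Subgroup.mem_centralizer_iff.mpr fun y _ => hab.is_comm.comm y x
    rw [hbot, Subgroup.mem_bot, mul_inv_eq_one] at hmem
    exact hne hmem
  obtain ⟨l, hl⟩ := H84.exists_hom_apply_ne_one hc
  exact hl (by rw [map_mul, map_inv, mul_inv_eq_one]; exact h (Additive.ofMul l))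

/-- An element fixing all linear characters of an abelian normal subgroup centralises it. -/
theorem Lin.commute_of_fix {N : Subgroup G} [N.Normal] (hab : IsMulCommutative N) {g : G}
    (h : ∀ v : Lin N, g • v = v) {n : G} (hn : n ∈ N) : g * n = n * g := by
  have hmem : g⁻¹ * n * g ∈ N := by simpa using (inferInstance : N.Normal).conj_mem _ hn g⁻¹
  have := Lin.eq_of_forall hab (a := ⟨g⁻¹ * n * g, hmem⟩) (b := ⟨n, hn⟩) fun v => by
    conv_rhs => rw [← h v]
    exact (Lin.hom_smul g v ⟨n, hn⟩).symm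
  have h2 : g⁻¹ * n * g = n := congrArg Subtype.val this
  rw [mul_assoc, inv_mul_eq_iff_eq_mul] at h2
  exact h2.symm

theorem false_of_nonnormal [Group.IsSolvable G] {r s t : ℕ} [Fact r.Prime] [Fact s.Prime] [Fact t.Prime]
    (hrs : r ≠ s) (hrt : r ≠ t) (hst : s ≠ t)
    (hno1 : ¬ Deg G (r * s)) (hno2 : ¬ Deg G (r * t)) (hno3 : ¬ Deg G (s * t))
    (hnr : ∀ P : Sylow r G, ¬ (P : Subgroup G).Normal) (hns : ∀ P : Sylow s G, ¬ (P : Subgroup G).Normal)
    (hnt : ∀ P : Sylow t G, ¬ (P : Subgroup G).Normal)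
    (M : Subgroup G) [M.Normal] (hM : M ≠ ⊥) (hmin : ∀ K : Subgroup G, K.Normal → K ≤ M → K = ⊥ ∨ K = M)
    (hq : ¬ Deg (G ⧸ M) r) : False := by
  classical
  obtain ⟨hab, ℓ, hℓ, hMℓ, hexp⟩ := Hall.minimal_normal_of_solvable hM hmin
  haveI := Fact.mk hℓ
  obtain ⟨P⟩ := (inferInstance : Nonempty (Sylow r G))
  set T := M ⊔ (P : Subgroup G) with hT
  have hTn : T.Normal := by
    have h1 := (normal_abelian_of_not_deg hq (P.mapSurjective (QuotientGroup.mk'_surjective M))).1
    rw [Sylow.coe_mapSurjective] at h1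
    have h2 := h1.comap (QuotientGroup.mk' M)
    rwa [Hall.comap_map_mk' M (P : Subgroup G)] at h2
  have hrℓ : r ≠ ℓ := by
    rintro rfl
    refine hnr P ?_
    have h1 : IsPGroup r T := hMℓ.to_sup_of_normal_left P.2
    rw [show (P : Subgroup G) = T from (P.3 h1 le_sup_right).symm]
    exact hTn
  set K := Subgroup.normalizer ((P : Subgroup G) : Set G) with hK
  have hsup : M ⊔ K = ⊤ := by
    have h1 := Sylow.normalizer_sup_eq_top' P (le_sup_right : (P : Subgroup G) ≤ T)
    rw [eq_top_iff, ← h1]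
    refine sup_le le_sup_right ?_
    exact sup_le le_sup_left (Subgroup.le_normalizer.trans le_sup_right)
  have hcop : (Nat.card (P : Subgroup G)).Coprime (Nat.card M) := by
    obtain ⟨a, ha⟩ := IsPGroup.iff_card.mp P.2
    obtain ⟨b, hb⟩ := IsPGroup.iff_card.mp hMℓ
    rw [ha, hb]
    exact Nat.Coprime.pow _ _ ((Nat.coprime_primes Fact.out hℓ).mpr hrℓ)
  set C := M ⊓ Subgroup.centralizer ((P : Subgroup G) : Set G) with hC
  have hCn : C.Normal := ⟨fun c hc g => by
    obtain ⟨m, hm, k, hk, rfl⟩ := Subgroup.mem_sup_of_normal_left.mp (hsup ▸ Subgroup.mem_top g)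
    have h1 : k * c * k⁻¹ ∈ C := by
      refine ⟨(inferInstance : M.Normal).conj_mem c hc.1 k, Subgroup.mem_centralizer_iff.mpr fun x hx => ?_⟩
      have hx' : k⁻¹ * x * k ∈ (P : Subgroup G) := by
        have := (Subgroup.mem_normalizer_iff.mp (K.inv_mem hk) x).mp hx
        simpa using this
      have h2 := Subgroup.mem_centralizer_iff.mp hc.2 _ hx'
      calc x * (k * c * k⁻¹) = k * ((k⁻¹ * x * k) * c) * k⁻¹ := by group
        _ = k * (c * (k⁻¹ * x * k)) * k⁻¹ := by rw [h2]
        _ = k * c * k⁻¹ * x := by group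
    have h3 : m * (k * c * k⁻¹) = (k * c * k⁻¹) * m :=
      congrArg Subtype.val (hab.is_comm.comm (⟨m, hm⟩ : M) ⟨_, h1.1⟩)
    rw [show m * k * c * (m * k)⁻¹ = m * (k * c * k⁻¹) * m⁻¹ by group, h3, mul_inv_cancel_right]
    exact h1⟩
  have hCbot : C = ⊥ := by
    rcases hmin C hCn inf_le_left with h | h
    · exact h
    exfalso
    refine hnr P (Subgroup.normalizer_eq_top_iff.mp (top_le_iff.mp ?_))
    rw [← hsup]
    refine sup_le (fun m hm => ?_) le_rfl
    have hmc : m ∈ Subgroup.centralizer ((P : Subgroup G) : Set G) := (h.symm ▸ hm : m ∈ C).2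
    exact Subgroup.centralizer_le_normalizer _ hmc
  have hNK : M ⊓ K = ⊥ := (Subgroup.eq_bot_iff_forall _).mpr fun m hm => by
    have : m ∈ C := ⟨hm.1, Subgroup.mem_centralizer_iff.mpr fun x hx => by
      have h1 : m * x * m⁻¹ * x⁻¹ ∈ M ⊓ (P : Subgroup G) := by
        refine ⟨?_, (P : Subgroup G).mul_mem ((Subgroup.mem_normalizer_iff.mp hm.2 x).mp hx) ((P : Subgroup G).inv_mem hx)⟩
        rw [show m * x * m⁻¹ * x⁻¹ = m * (x * m⁻¹ * x⁻¹) by group]
        exact M.mul_mem hm.1 ((inferInstance : M.Normal).conj_mem _ (M.inv_mem hm.1) x)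
      rw [Subgroup.inf_eq_bot_of_coprime hcop.symm, Subgroup.mem_bot, mul_inv_eq_one, mul_inv_eq_iff_eq_mul] at h1
      exact h1.symm⟩
    rwa [hCbot, Subgroup.mem_bot] at this
  have hMP : ⁅M, (P : Subgroup G)⁆ = M := by
    have h1 := Coprime.commutator_sup_centralizer (A := (P : Subgroup G)) (K := M)
      (by rw [Subgroup.normalizer_eq_top]; exact le_top) hcop (Or.inr inferInstance)
    rwa [← hC, hCbot, sup_bot_eq] at h1
  obtain ⟨n, hn⟩ := IsPGroup.iff_card.mp hMℓ
  have hcard : Nat.card (Lin M) = ℓ ^ n := by rw [Lin.card_eq hab, hn]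
  have hI : ∀ v : Lin M, v ≠ 0 → r ∣ (inertia M v.fn).index := by
    intro v hv
    by_contra hnd
    obtain ⟨Q⟩ := (inferInstance : Nonempty (Sylow r (inertia M v.fn)))
    have hQm : IsPGroup r ((Q : Subgroup (inertia M v.fn)).map (inertia M v.fn).subtype) := Q.2.map _
    have hQi : ¬ r ∣ ((Q : Subgroup (inertia M v.fn)).map (inertia M v.fn).subtype).index := by
      rw [Subgroup.index_map_subtype]
      exact (Fact.out : r.Prime).not_dvd_mul Q.not_dvd_index hnd
    obtain ⟨g, hg⟩ := MulAction.exists_smul_eq G P (hQm.toSylow hQi)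
    obtain ⟨m, hm, k, hk, rfl⟩ := Subgroup.mem_sup_of_normal_left.mp (hsup ▸ Subgroup.mem_top g)
    have hmI : m ∈ inertia M v.fn := le_inertia M (IsIrr.isClassFunction (Lin.fn_isIrr v)) hm
    have hPI : (P : Subgroup G) ≤ inertia M v.fn := by
      intro y hy
      have hx : k⁻¹ * y * k ∈ (P : Subgroup G) := by
        simpa using (Subgroup.mem_normalizer_iff.mp (K.inv_mem hk) y).mp hy
      have h1 : m * y * m⁻¹ ∈ ((m * k) • P : Sylow r G).toSubgroup := by
        rw [Sylow.coe_subgroup_smul, Subgroup.mem_pointwise_smul_iff_inv_smul_mem, MulAut.smul_def,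
          MulAut.conj_inv_apply]
        rwa [show (m * k)⁻¹ * (m * y * m⁻¹) * (m * k) = k⁻¹ * y * k by group]
      rw [hg] at h1
      obtain ⟨a, -, ha⟩ : m * y * m⁻¹ ∈ (Q : Subgroup (inertia M v.fn)).map (inertia M v.fn).subtype := h1
      rw [show y = m⁻¹ * (m * y * m⁻¹) * m by group, ← ha]
      exact mul_mem (mul_mem (inv_mem hmI) a.2) hmI
    apply hv
    let A := (v.hom.ker).map M.subtype
    have hA : ⁅M, (P : Subgroup G)⁆ ≤ A := by
      rw [Subgroup.commutator_le]
      intro a ha x hx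
      have hxa : x * a⁻¹ * x⁻¹ ∈ M := (inferInstance : M.Normal).conj_mem _ (M.inv_mem ha) x
      refine ⟨⟨a, ha⟩ * ⟨x * a⁻¹ * x⁻¹, hxa⟩, MonoidHom.mem_ker.mpr ?_, ?_⟩
      · have h1 : v.hom ⟨x * a⁻¹ * x⁻¹, hxa⟩ = v.hom (⟨a, ha⟩⁻¹ : M) :=
          Units.ext (congrFun ((mem_inertia M).mp (hPI hx)) (⟨a, ha⟩⁻¹ : M))
        rw [map_mul, h1, ← map_mul, mul_inv_cancel, map_one]
      · show a * (x * a⁻¹ * x⁻¹) = ⁅a, x⁆
        rw [commutatorElement_def]; group
    refine Lin.ext fun a => ?_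
    obtain ⟨b, hb, hba⟩ := hA (by rw [hMP]; exact a.2)
    rw [show a = b from Subtype.ext hba.symm, Lin.hom_zero]
    exact MonoidHom.mem_ker.mp hb
  have hstab : ∀ (b : ℕ) [Fact b.Prime], r ≠ b → ¬ Deg G (r * b) → UniqueFix (Lin M) b K := by
    intro b _ hrb hnb
    refine uniqueFix_of_stabilizer fun v hv => ?_
    rw [Lin.stabilizer_subgroup_eq]
    exact stab_of_character M K hNK hsup (Lin.fn_isIrr v) (Lin.fn_one v) (Lin.exists_extension K hNK hsup v)
      Fact.out hrb (by rw [mul_one]; exact hI v hv) hnb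
  have hmove : ∀ (b : ℕ) [Fact b.Prime], UniqueFix (Lin M) b K →
      (∀ Q : Sylow b G, ¬ (Q : Subgroup G).Normal) →
      ∃ Q : Sylow b K, ∃ g ∈ (Q : Subgroup K), ∃ v : Lin M, g • v ≠ v := by
    intro b _ hub hnb
    by_contra hc
    push Not at hc
    obtain ⟨Q⟩ := (inferInstance : Nonempty (Sylow b K))
    obtain ⟨v, hv⟩ := Lin.exists_ne_zero hab hM
    obtain ⟨P0, -, hP0⟩ := hub v hv
    haveI : Subsingleton (Sylow b K) :=
      ⟨fun A B => (hP0 A fun g hg => hc A g hg v).trans (hP0 B fun g hg => hc B g hg v).symm⟩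
    have hQn : (Q : Subgroup K).Normal := Sylow.normal_of_subsingleton Q
    set X := (Q : Subgroup K).map K.subtype with hX
    have hXM : ∀ x ∈ X, ∀ m ∈ M, x * m = m * x := by
      rintro _ ⟨g, hg, rfl⟩ m hm
      exact Lin.commute_of_fix hab (fun w => hc Q g hg w) hm
    have hXn : X.Normal := ⟨fun x hx g => by
      obtain ⟨g0, hg0, rfl⟩ := hx
      obtain ⟨m, hm, k, hk, rfl⟩ := Subgroup.mem_sup_of_normal_left.mp (hsup ▸ Subgroup.mem_top g)
      have h1 : k * (g0 : G) * k⁻¹ ∈ X := ⟨⟨k, hk⟩ * g0 * ⟨k, hk⟩⁻¹, hQn.conj_mem g0 hg0 _, rfl⟩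
      rw [show m * k * K.subtype g0 * (m * k)⁻¹ = m * (k * (g0 : G) * k⁻¹) * m⁻¹ by
        simp [mul_assoc], ← hXM _ h1 m hm, mul_inv_cancel_right]
      exact h1⟩
    have hXi : X.index = (Q : Subgroup K).index * K.index := Subgroup.index_map_subtype _
    have hKi : K.index = Nat.card M := by
      have hc' : Subgroup.IsComplement' M K :=
        Subgroup.isComplement'_of_disjoint_and_mul_eq_univ (disjoint_iff.mpr hNK) (by
          rw [← Subgroup.normal_mul, hsup]; rfl)
      exact hc'.index_eq_card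
    have hXp : IsPGroup b X := Q.2.map _
    by_cases hbℓ : b = ℓ
    · subst hbℓ
      have hsp : IsPGroup b (M ⊔ X : Subgroup G) := hMℓ.to_sup_of_normal_left hXp
      have hidx : ¬ b ∣ (M ⊔ X).index := by
        intro hd
        have h2 : X.index = (X.subgroupOf (M ⊔ X)).index * (M ⊔ X).index :=
          (Subgroup.relIndex_mul_index (le_sup_right : X ≤ M ⊔ X)).symm
        have hdisj : M ⊓ X = ⊥ := le_bot_iff.mp (hNK ▸ inf_le_inf_left M (Subgroup.map_subtype_le _))
        have h3 : (X.subgroupOf (M ⊔ X)).index = Nat.card M := by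
          have h4 := Cores.card_sup_mul_card_inf X M
          rw [sup_comm X M, inf_comm X M, hdisj, Subgroup.card_bot, mul_one] at h4
          have h5 := Subgroup.card_mul_index (X.subgroupOf (M ⊔ X))
          rw [Nat.card_congr (Subgroup.subgroupOfEquivOfLe (le_sup_right : X ≤ M ⊔ X)).toEquiv, h4] at h5
          exact Nat.eq_of_mul_eq_mul_left Nat.card_pos h5
        rw [h3, hXi, hKi, mul_comm (Nat.card M)] at h2
        have h6 := Nat.eq_of_mul_eq_mul_right Nat.card_pos h2
        exact Q.not_dvd_index (h6 ▸ hd)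
      haveI := hXn
      exact hnb (hsp.toSylow hidx) (inferInstance : (M ⊔ X).Normal)
    · refine hnb (hXp.toSylow ?_) hXn
      rw [hXi, hKi, hn]
      exact (Fact.out : b.Prime).not_dvd_mul Q.not_dvd_index fun hd =>
        hbℓ ((Nat.prime_dvd_prime_iff_eq Fact.out hℓ).mp ((Fact.out : b.Prime).dvd_of_dvd_pow hd))
  have hus := hstab s hrs hno1
  have hut := hstab t hrt hno2
  have hdeg : Deg K (s * t) :=
    linear_image hℓ (fun w => Lin.card_pow hexp w) hcard hst hus hut (hmove s hus hns) (hmove t hut hnt)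
  apply hno3
  have hbij : Function.Bijective ((QuotientGroup.mk' M).comp K.subtype) := by
    refine ⟨(injective_iff_map_eq_one _).mpr fun k hk => ?_, fun x => ?_⟩
    · have h1 : (k : G) ∈ M ⊓ K := ⟨(QuotientGroup.eq_one_iff (k : G)).mp hk, k.2⟩
      rw [hNK, Subgroup.mem_bot] at h1
      exact Subtype.ext h1
    · obtain ⟨g, rfl⟩ := QuotientGroup.mk'_surjective M x
      obtain ⟨m, hm, k, hk, rfl⟩ := Subgroup.mem_sup_of_normal_left.mp (hsup ▸ Subgroup.mem_top g)
      refine ⟨⟨k, hk⟩, ?_⟩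
      show QuotientGroup.mk' M k = QuotientGroup.mk' M (m * k)
      rw [map_mul, show QuotientGroup.mk' M m = 1 from (QuotientGroup.eq_one_iff m).mpr hm, one_mul]
  let e := MulEquiv.ofBijective _ hbij
  exact hdeg.of_surjective (e.symm.toMonoidHom.comp (QuotientGroup.mk' M))
    (e.symm.surjective.comp (QuotientGroup.mk'_surjective M))

end Cfsg.Agent.H44.Palfy
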