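import Cfsg.Agent.H44.Palfy.Chars

/-!
Two normal subgroups with trivial intersection; non-linear characters of prime power order groups.
-/

set_option autoImplicit false
set_option linter.style.haveILetI false
set_option linter.unusedSectionVars false

namespace Cfsg.Agent.H44.Palfy

open Cfsg Cfsg.Agent Cfsg.Agent.CharInduce Cfsg.Agent.CharBasic

universe u

variable {G : Type u} [Group G] [Finite G]

theorem deg_of_normal (N : Subgroup G) [N.Normal] {a : ℕ} (h : Deg N a) : Deg G a := by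
  obtain ⟨θ, hθ⟩ := h
  obtain ⟨χ, hχ⟩ := deg_above N θ.2 (apply_one θ)
  exact ⟨χ, (hθ.mul_left _).trans hχ⟩

theorem deg_prod {A : Type u} {B : Type u} [Group A] [Finite A] [Group B] [Finite B] {a b : ℕ}
    (ha : Deg A a) (hb : Deg B b) : Deg (A × B) (a * b) := by
  obtain ⟨φ, hφ⟩ := ha
  obtain ⟨ψ, hψ⟩ := hb
  refine ⟨⟨_, isIrrCharacter_outer φ.2 ψ.2⟩, ?_⟩
  show a * b ∣ charDegree (fun x : A × B => (φ : A → ℂ) x.1 * (ψ : B → ℂ) x.2)
  rw [H84.charDegree_of_eq (n := charDegree (φ : A → ℂ) * charDegree (ψ : B → ℂ)) (by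
    rw [Prod.fst_one, Prod.snd_one, apply_one, apply_one, Nat.cast_mul])]
  exact mul_dvd_mul hφ hψ

theorem deg_of_disjoint (R C : Subgroup G) [R.Normal] [C.Normal] (hd : R ⊓ C = ⊥) {a b : ℕ}
    (ha : Deg R a) (hb : Deg C b) : Deg G (a * b) := by
  have hcomm : ∀ (x : R) (y : C), Commute (R.subtype x) (C.subtype y) := fun x y =>
    Subgroup.commute_of_normal_of_disjoint R C inferInstance inferInstance (disjoint_iff.mpr hd) x y x.2 y.2
  let f : R × C →* G := R.subtype.noncommCoprod C.subtype hcomm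
  have hinj : Function.Injective f := (injective_iff_map_eq_one f).mpr fun p hp => by
    have hp' : (p.1 : G) * p.2 = 1 := hp
    have h1 : (p.1 : G) ∈ R ⊓ C := ⟨p.1.2, by
      rw [eq_inv_of_mul_eq_one_left hp']; exact C.inv_mem p.2.2⟩
    rw [hd, Subgroup.mem_bot] at h1
    rw [h1, one_mul] at hp'
    exact Prod.ext (Subtype.ext h1) (Subtype.ext hp')
  have hrange : f.range = R ⊔ C := by
    show (R.subtype.noncommCoprod C.subtype hcomm).range = _
    rw [MonoidHom.noncommCoprod_range, Subgroup.range_subtype, Subgroup.range_subtype]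
  haveI : f.range.Normal := hrange ▸ inferInstance
  refine deg_of_normal f.range ((deg_prod ha hb).of_surjective (MonoidHom.ofInjective hinj).symm.toMonoidHom
    (MonoidHom.ofInjective hinj).symm.surjective)

theorem exists_nonlinear_dvd {r : ℕ} [Fact r.Prime] (hP : IsPGroup r G) (hab : ¬ IsMulCommutative G) :
    Deg G r := by
  by_contra h
  obtain ⟨k, hk⟩ := IsPGroup.iff_card.mp hP
  refine hab ⟨⟨fun a b => CharBasic.commutative_iff_forall_linear.2 (fun χ => ?_) a b⟩⟩
  obtain ⟨n, -, hn, hdvd, -⟩ := IsIrr.degree_dvd χ.2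
  rw [hk] at hdvd
  obtain ⟨j, -, rfl⟩ := (Nat.dvd_prime_pow Fact.out).mp hdvd
  rcases Nat.eq_zero_or_pos j with rfl | hj
  · simpa using hn
  · exact absurd ⟨χ, (H84.charDegree_of_eq hn).symm ▸ dvd_pow_self r hj.ne'⟩ h

end Cfsg.Agent.H44.Palfy
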