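import Cfsg.Agent.H44.Palfy.Product
import Cfsg.Agent.H44.Palfy.NonNormal
import Cfsg.Agent.PGroups.Basic

/-!
A normal non-abelian Sylow subgroup: the derived subgroup is a central minimal normal subgroup and a
complement acts faithfully.
-/

set_option autoImplicit false
set_option linter.style.haveILetI false
set_option linter.unusedSectionVars false

namespace Cfsg.Agent.H44.Palfy

open scoped commutatorElement
open Cfsg MulAction Cfsg.Agent Cfsg.Agent.CharInduce Cfsg.Agent.CharBasic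

universe u

variable {G : Type u} [Group G] [Finite G]

/-- If `[R, Q]` lies in a central subgroup, the derived subgroup is centralised by `Q`. -/
theorem commutator_le_centralizer_of_le {R Q M : Subgroup G} [R.Normal] [M.Normal] [Group.IsSolvable G]
    (hMR : M ≤ R) (hMc : M ≤ Subgroup.centralizer (R : Set G)) (hRQ : ⁅R, Q⁆ ≤ M)
    (hcop : (Nat.card Q).Coprime (Nat.card R)) : ⁅R, R⁆ ≤ Subgroup.centralizer (Q : Set G) := by
  have hsup := Coprime.commutator_sup_centralizer (A := Q) (K := R)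
    (by rw [Subgroup.normalizer_eq_top]; exact le_top) hcop (Or.inl inferInstance)
  set C := R ⊓ Subgroup.centralizer (Q : Set G) with hC
  have hdec : ∀ x ∈ R, ∃ m ∈ M, ∃ c ∈ C, x = m * c := by
    intro x hx
    have hx' : x ∈ M ⊔ C := (sup_le_sup_right hRQ C) (hsup.symm ▸ hx)
    obtain ⟨m, hm, c, hc, rfl⟩ := Subgroup.mem_sup_of_normal_left.mp hx'
    exact ⟨m, hm, c, hc, rfl⟩
  refine (Subgroup.commutator_le.mpr fun a ha b hb => ?_).trans (inf_le_right : C ≤ _)
  obtain ⟨m, hm, c, hc, rfl⟩ := hdec a ha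
  obtain ⟨m', hm', c', hc', rfl⟩ := hdec b hb
  have h1 : ∀ x ∈ R, x * m = m * x := fun x hx => Subgroup.mem_centralizer_iff.mp (hMc hm) x hx
  have h2 : ∀ x ∈ R, x * m' = m' * x := fun x hx => Subgroup.mem_centralizer_iff.mp (hMc hm') x hx
  have e : ⁅m * c, m' * c'⁆ = ⁅c, c'⁆ := by
    simp only [commutatorElement_def, mul_inv_rev]
    calc m * c * (m' * c') * (c⁻¹ * m⁻¹) * (c'⁻¹ * m'⁻¹)
        = m * (c * m') * c' * c⁻¹ * (m⁻¹ * c'⁻¹) * m'⁻¹ := by group
      _ = m * (m' * c) * c' * c⁻¹ * (c'⁻¹ * m⁻¹) * m'⁻¹ := by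
          rw [h2 c hc.1, show m⁻¹ * c'⁻¹ = c'⁻¹ * m⁻¹ from by
            rw [← mul_inv_rev, ← mul_inv_rev, h1 c' hc'.1]]
      _ = (m * m') * (c * c' * c⁻¹ * c'⁻¹) * (m' * m)⁻¹ := by group
      _ = (c * c' * c⁻¹ * c'⁻¹) := by
          have h3 : m * m' = m' * m := (h1 m' (hMR hm')).symm
          have h4 : (c * c' * c⁻¹ * c'⁻¹) ∈ R :=
            R.mul_mem (R.mul_mem (R.mul_mem hc.1 hc'.1) (R.inv_mem hc.1)) (R.inv_mem hc'.1)
          have h5 : ∀ k, k ∈ R → m * m' * k * (m' * m)⁻¹ = k := fun k hk => by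
            rw [mul_assoc m m', ← h2 k hk, ← mul_assoc, ← h1 k hk, mul_assoc k, h3, mul_inv_cancel_right]
          exact h5 _ h4
  rw [e]
  exact commutatorElement_def c c' ▸ C.mul_mem (C.mul_mem (C.mul_mem hc hc') (C.inv_mem hc)) (C.inv_mem hc')

/-- A Sylow subgroup normalised by a normal subgroup containing it is normal. -/
theorem normal_of_le_normalizer {b : ℕ} [Fact b.Prime] (Q : Sylow b G) (T : Subgroup G) [T.Normal]
    (hQT : (Q : Subgroup G) ≤ T) (hT : T ≤ Subgroup.normalizer ((Q : Subgroup G) : Set G)) :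
    (Q : Subgroup G).Normal := by
  refine Subgroup.normalizer_eq_top_iff.mp (top_le_iff.mp ?_)
  rw [← Sylow.normalizer_sup_eq_top' Q hQT]
  exact sup_le le_rfl hT

/-- The data of the second case. -/
structure NormalCase (r s t : ℕ) (R M K : Subgroup G) : Prop where
  hRp : IsPGroup r R
  hRi : ¬ r ∣ R.index
  hMR : M ≤ R
  hMc : M ≤ Subgroup.centralizer (R : Set G)
  hMne : M ≠ ⊥
  hRM : ⁅R, R⁆ = M
  hexp : ∀ x ∈ M, x ^ r = 1
  hRK : R ⊓ K = ⊥
  hsup : R ⊔ K = ⊤
  hfaith : K ⊓ Subgroup.centralizer (R : Set G) = ⊥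

theorem exists_normalCase [Group.IsSolvable G] {r s t : ℕ} [Fact r.Prime] [Fact s.Prime] [Fact t.Prime]
    (hrs : r ≠ s) (hrt : r ≠ t)
    (hno1 : ¬ Deg G (r * s)) (hno2 : ¬ Deg G (r * t))
    (R : Sylow r G) [(R : Subgroup G).Normal] (hnab : ¬ IsMulCommutative (R : Subgroup G))
    (hns : ∀ P : Sylow s G, ¬ (P : Subgroup G).Normal) (hnt : ∀ P : Sylow t G, ¬ (P : Subgroup G).Normal)
    (hq : ∀ N : Subgroup G, ∀ (_ : N.Normal), N ≠ ⊥ → ¬ Deg (G ⧸ N) r ∨ ¬ Deg (G ⧸ N) s ∨ ¬ Deg (G ⧸ N) t) :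
    ∃ (M K : Subgroup G) (_ : M.Normal), NormalCase r s t (R : Subgroup G) M K := by
  classical
  have hRp := R.2
  have hRd : Deg (R : Subgroup G) r := exists_nonlinear_dvd hRp hnab
  have hcopR : ∀ (b : ℕ) [Fact b.Prime] (Q : Sylow b G), r ≠ b →
      (Nat.card (Q : Subgroup G)).Coprime (Nat.card (R : Subgroup G)) := by
    intro b _ Q hrb
    obtain ⟨a, ha⟩ := IsPGroup.iff_card.mp Q.2
    obtain ⟨c, hc⟩ := IsPGroup.iff_card.mp hRp
    rw [ha, hc]
    exact Nat.Coprime.pow _ _ ((Nat.coprime_primes Fact.out Fact.out).mpr (Ne.symm hrb))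
  -- `R ⊓ (N Q) = N` for `N ≤ R`, trivial for `N` prime to `R`
  have hinf : ∀ (b : ℕ) [Fact b.Prime] (Q : Sylow b G) (N : Subgroup G) [N.Normal], r ≠ b →
      N ≤ (R : Subgroup G) → (R : Subgroup G) ⊓ (N ⊔ (Q : Subgroup G)) ≤ N := by
    intro b _ Q N _ hrb hN x hx
    obtain ⟨m, hm, q, hq', rfl⟩ := Subgroup.mem_sup_of_normal_left.mp hx.2
    have h1 : q ∈ (Q : Subgroup G) ⊓ (R : Subgroup G) :=
      ⟨hq', ((R : Subgroup G).mul_mem_cancel_left (hN hm)).mp hx.1⟩
    rw [Subgroup.inf_eq_bot_of_coprime (hcopR b Q hrb), Subgroup.mem_bot] at h1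
    rwa [h1, mul_one]
  have hTn : ∀ (b : ℕ) [Fact b.Prime] (Q : Sylow b G) (N : Subgroup G) [N.Normal], ¬ Deg (G ⧸ N) b →
      (N ⊔ (Q : Subgroup G)).Normal := by
    intro b _ Q N _ hd
    have h1 := (normal_abelian_of_not_deg hd (Q.mapSurjective (QuotientGroup.mk'_surjective N))).1
    rw [Sylow.coe_mapSurjective] at h1
    have h2 := h1.comap (QuotientGroup.mk' N)
    rwa [Hall.comap_map_mk' N (Q : Subgroup G)] at h2
  set R' := ⁅(R : Subgroup G), (R : Subgroup G)⁆ with hR'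
  have hR'R : R' ≤ (R : Subgroup G) := Subgroup.commutator_le_left _ _
  have hR'ne : R' ≠ ⊥ := fun h0 => hnab ⟨⟨fun a b => Subtype.ext
    (Subgroup.mem_centralizer_iff.mp ((Subgroup.commutator_eq_bot_iff_le_centralizer.mp h0) b.2) a a.2)⟩⟩
  have hZne : R' ⊓ Subgroup.centralizer ((R : Subgroup G) : Set G) ≠ ⊥ := by
    intro h0
    have h1 := PGroups.inf_center_ne_bot hRp (R'.subgroupOf (R : Subgroup G)) (fun h => hR'ne (by
      rw [Subgroup.subgroupOf_eq_bot, disjoint_iff, inf_eq_left.mpr hR'R] at h; exact h))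
    refine h1 ((Subgroup.eq_bot_iff_forall _).mpr fun x hx => Subtype.ext ?_)
    have h2 : (x : G) ∈ R' ⊓ Subgroup.centralizer ((R : Subgroup G) : Set G) :=
      ⟨Subgroup.mem_subgroupOf.mp hx.1, Subgroup.mem_centralizer_iff.mpr fun y hy =>
        congrArg Subtype.val (Subgroup.mem_center_iff.mp hx.2 ⟨y, hy⟩)⟩
    rw [h0, Subgroup.mem_bot] at h2
    exact h2
  haveI : R'.Normal := Subgroup.commutator_normal _ _
  obtain ⟨M, hMn, hMne, hMle, hmin⟩ := Hall.exists_minimal_normal_le _ hZne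
  haveI := hMn
  obtain ⟨hMab, ℓ, hℓ, hMℓ, hexp⟩ := Hall.minimal_normal_of_solvable hMne hmin
  have hMR : M ≤ (R : Subgroup G) := (hMle.trans inf_le_left).trans hR'R
  have hMc : M ≤ Subgroup.centralizer ((R : Subgroup G) : Set G) := hMle.trans inf_le_right
  have hℓr : ℓ = r := by
    have h1 : IsPGroup r M := hRp.to_le hMR
    obtain ⟨a, ha⟩ := IsPGroup.iff_card.mp h1
    haveI := Fact.mk hℓ
    obtain ⟨b, hb⟩ := IsPGroup.iff_card.mp hMℓ
    have hb0 : b ≠ 0 := fun h0 => hMne (Subgroup.card_eq_one.mp (by rw [hb, h0, pow_zero]))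
    have : ℓ ∣ r ^ a := by rw [← ha, hb]; exact dvd_pow_self ℓ hb0
    exact (Nat.prime_dvd_prime_iff_eq hℓ Fact.out).mp (hℓ.dvd_of_dvd_pow this)
  rw [hℓr] at hexp
  have hnoM : ∀ (b : ℕ) [Fact b.Prime], r ≠ b → (∀ P : Sylow b G, ¬ (P : Subgroup G).Normal) →
      Deg (G ⧸ M) b := by
    intro b _ hrb hnb
    by_contra hd
    obtain ⟨Q⟩ := (inferInstance : Nonempty (Sylow b G))
    haveI := hTn b Q M hd
    set T := M ⊔ (Q : Subgroup G)
    have hRQ : ⁅(R : Subgroup G), (Q : Subgroup G)⁆ ≤ M :=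
      le_trans (le_inf (Subgroup.commutator_le_left _ _)
        ((Subgroup.commutator_mono le_rfl le_sup_right).trans (Subgroup.commutator_le_right _ T)))
        (hinf b Q M hrb hMR)
    have hC : M ≤ Subgroup.centralizer ((Q : Subgroup G) : Set G) :=
      (hMle.trans inf_le_left).trans (commutator_le_centralizer_of_le hMR hMc hRQ (hcopR b Q hrb))
    refine hnb Q (normal_of_le_normalizer Q T le_sup_right (sup_le ?_ Subgroup.le_normalizer))
    exact hC.trans (Subgroup.centralizer_le_normalizer _)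
  have hRM : R' = M := by
    refine le_antisymm ?_ (hMle.trans inf_le_left)
    rcases hq M hMn hMne with h | h | h
    · obtain ⟨-, hab⟩ := normal_abelian_of_not_deg h (R.mapSurjective (QuotientGroup.mk'_surjective M))
      refine Subgroup.commutator_le.mpr fun a ha b hb => (QuotientGroup.eq_one_iff _).mp ?_
      show QuotientGroup.mk' M ⁅a, b⁆ = 1
      rw [map_commutatorElement, commutatorElement_eq_one_iff_mul_comm]
      exact congrArg Subtype.val (hab.is_comm.comm
        (⟨QuotientGroup.mk' M a, Subgroup.mem_map_of_mem _ ha⟩ : (R.mapSurjective (QuotientGroup.mk'_surjective M) : Subgroup _))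
        ⟨QuotientGroup.mk' M b, Subgroup.mem_map_of_mem _ hb⟩)
    · exact absurd (hnoM s hrs hns) h
    · exact absurd (hnoM t hrt hnt) h
  have hcopRi : (Nat.card (R : Subgroup G)).Coprime (R : Subgroup G).index := by
    obtain ⟨a, ha⟩ := IsPGroup.iff_card.mp hRp
    rw [ha]
    exact Nat.Coprime.pow_left a ((Fact.out : r.Prime).coprime_iff_not_dvd.mpr R.not_dvd_index)
  obtain ⟨K, hK⟩ := Subgroup.exists_right_complement'_of_coprime hcopRi
  have hRK : (R : Subgroup G) ⊓ K = ⊥ := hK.disjoint.eq_bot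
  have hsup : (R : Subgroup G) ⊔ K = ⊤ := hK.sup_eq_top
  refine ⟨M, K, hMn, ⟨hRp, R.not_dvd_index, hMR, hMc, hMne, hRM, hexp, hRK, hsup, ?_⟩⟩
  -- faithfulness
  by_contra hne
  set C := K ⊓ Subgroup.centralizer ((R : Subgroup G) : Set G) with hC
  have hCn : C.Normal := ⟨fun c hc g => by
    obtain ⟨x, hx, k, hk, rfl⟩ := Subgroup.mem_sup_of_normal_left.mp (hsup ▸ Subgroup.mem_top g)
    have h1 : k * c * k⁻¹ ∈ C := ⟨K.mul_mem (K.mul_mem hk hc.1) (K.inv_mem hk),
      (inferInstance : (Subgroup.centralizer ((R : Subgroup G) : Set G)).Normal).conj_mem c hc.2 k⟩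
    rw [show x * k * c * (x * k)⁻¹ = x * (k * c * k⁻¹) * x⁻¹ by group,
      Subgroup.mem_centralizer_iff.mp h1.2 x hx, mul_inv_cancel_right]
    exact h1⟩
  have hdisj : (R : Subgroup G) ⊓ C = ⊥ := le_bot_iff.mp (hRK ▸ inf_le_inf_left _ inf_le_left)
  have hnoC : ∀ (b : ℕ) [Fact b.Prime], r ≠ b → ¬ Deg G (r * b) →
      (∀ P : Sylow b G, ¬ (P : Subgroup G).Normal) → Deg (G ⧸ C) b := by
    intro b _ hrb hnd hnb
    by_contra hd
    obtain ⟨Q⟩ := (inferInstance : Nonempty (Sylow b G))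
    haveI := hTn b Q C hd
    set T := C ⊔ (Q : Subgroup G)
    have hRT : (R : Subgroup G) ⊓ T = ⊥ := by
      refine Subgroup.inf_eq_bot_of_coprime (Nat.Coprime.coprime_dvd_right (Cores.card_sup_dvd (Q : Subgroup G) C |>
        fun h => sup_comm (Q : Subgroup G) C ▸ h) (Nat.Coprime.mul_right ?_ ?_))
      · exact (hcopR b Q hrb).symm
      · exact hcopRi.coprime_dvd_right ((Subgroup.card_dvd_of_le (inf_le_left : C ≤ K)).trans (hK.symm.index_eq_card ▸ dvd_rfl))
    have hQR : (Q : Subgroup G) ≤ Subgroup.centralizer ((R : Subgroup G) : Set G) := fun q hq' =>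
      Subgroup.mem_centralizer_iff.mpr fun x hx =>
        (Subgroup.commute_of_normal_of_disjoint _ T inferInstance inferInstance (disjoint_iff.mpr hRT) x q hx
          ((le_sup_right : (Q : Subgroup G) ≤ T) hq')).eq
    obtain ⟨P⟩ := (inferInstance : Nonempty (Sylow b K))
    have hPm : IsPGroup b ((P : Subgroup K).map K.subtype) := P.2.map _
    have hPi : ¬ b ∣ ((P : Subgroup K).map K.subtype).index := by
      rw [Subgroup.index_map_subtype, hK.index_eq_card]
      refine (Fact.out : b.Prime).not_dvd_mul P.not_dvd_index fun hdd => ?_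
      obtain ⟨a, ha⟩ := IsPGroup.iff_card.mp hRp
      exact hrb ((Nat.prime_dvd_prime_iff_eq Fact.out Fact.out).mp
        ((Fact.out : b.Prime).dvd_of_dvd_pow (ha ▸ hdd))).symm
    set P' : Sylow b G := hPm.toSylow hPi with hP'
    have hP'C : (P' : Subgroup G) ≤ C := by
      refine le_inf (Subgroup.map_subtype_le _) ?_
      obtain ⟨g, hg⟩ := MulAction.exists_smul_eq G Q P'
      intro y hy
      have h1 : y ∈ ((g • Q : Sylow b G) : Subgroup G) := by rw [hg]; exact hy
      rw [Sylow.coe_subgroup_smul, Subgroup.mem_pointwise_smul_iff_inv_smul_mem, MulAut.smul_def,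
        MulAut.conj_inv_apply] at h1
      have h2 := (inferInstance : (Subgroup.centralizer ((R : Subgroup G) : Set G)).Normal).conj_mem _ (hQR h1) g
      simpa [mul_assoc] using h2
    haveI := hCn
    have hCdeg : ¬ Deg C b := fun hdc => hnd (deg_of_disjoint (R : Subgroup G) C hdisj hRd hdc)
    obtain ⟨hn, -⟩ := normal_abelian_of_not_deg hCdeg (P'.subtype hP'C)
    refine hnb P' (normal_of_le_normalizer P' C hP'C ?_)
    exact (Subgroup.normal_subgroupOf_iff_le_normalizer hP'C).mp (by rwa [← Sylow.coe_subtype])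
  rcases hq C hCn hne with h | h | h
  · refine hnab ⟨⟨fun a b => Subtype.ext ?_⟩⟩
    obtain ⟨-, hab⟩ := normal_abelian_of_not_deg h (R.mapSurjective (QuotientGroup.mk'_surjective C))
    have h1 : QuotientGroup.mk' C ⁅(a : G), (b : G)⁆ = 1 := by
      rw [map_commutatorElement, commutatorElement_eq_one_iff_mul_comm]
      exact congrArg Subtype.val (hab.is_comm.comm
        (⟨QuotientGroup.mk' C a, Subgroup.mem_map_of_mem _ a.2⟩ : (R.mapSurjective (QuotientGroup.mk'_surjective C) : Subgroup _))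
        ⟨QuotientGroup.mk' C b, Subgroup.mem_map_of_mem _ b.2⟩)
    have h2 : ⁅(a : G), (b : G)⁆ ∈ (R : Subgroup G) ⊓ C :=
      ⟨hR'R (Subgroup.commutator_mem_commutator a.2 b.2), (QuotientGroup.eq_one_iff _).mp h1⟩
    rw [hdisj, Subgroup.mem_bot, commutatorElement_eq_one_iff_mul_comm] at h2
    exact h2
  · exact h (hnoC s hrs hno1 hns)
  · exact h (hnoC t hrt hno2 hnt)

end Cfsg.Agent.H44.Palfy
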