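import Cfsg.Agent.H44.Palfy.Setup
import Cfsg.Agent.H84.InvariantAbove

/-!
In the second case: the stabilisers of characters of the normal Sylow subgroup and of its derived subgroup.
-/

set_option autoImplicit false
set_option linter.style.haveILetI false
set_option linter.unusedSectionVars false

namespace Cfsg.Agent.H44.Palfy

open scoped commutatorElement
open Cfsg MulAction Cfsg.Agent Cfsg.Agent.CharInduce Cfsg.Agent.CharBasic

universe u

variable {G : Type u} [Group G] [Finite G] {r s t : ℕ} {R M K : Subgroup G} [R.Normal] [M.Normal]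

theorem NormalCase.commM (h : NormalCase r s t R M K) : IsMulCommutative M :=
  ⟨⟨fun a b => Subtype.ext (Subgroup.mem_centralizer_iff.mp (h.hMc b.2) a (h.hMR a.2))⟩⟩

theorem NormalCase.isComplement (h : NormalCase r s t R M K) : Subgroup.IsComplement' R K :=
  Subgroup.isComplement'_of_disjoint_and_mul_eq_univ (disjoint_iff.mpr h.hRK) (by
    rw [← Subgroup.normal_mul, h.hsup]; rfl)

/-- A non-linear character of `R` with its stabiliser in the complement. -/
theorem NormalCase.stab_nonlinear [Group.IsSolvable G] [hr : Fact r.Prime] (h : NormalCase r s t R M K)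
    {θ : R → ℂ} (hθ : IsIrrCharacter R θ) {d : ℕ} (hd : θ 1 = d) (hd1 : d ≠ 1) {b : ℕ} [Fact b.Prime]
    (hrb : r ≠ b) (hno : ¬ Deg G (r * b)) :
    ¬ b ∣ ((inertia R θ).subgroupOf K).index ∧ Subsingleton (Sylow b ((inertia R θ).subgroupOf K)) := by
  cases nonempty_fintype G
  obtain ⟨n, -, hn, hndvd, -⟩ := IsIrr.degree_dvd hθ
  have hdn : d = n := by
    have : (d : ℂ) = n := by rw [← hd, hn]
    exact_mod_cast this
  subst hdn
  obtain ⟨a, ha⟩ := IsPGroup.iff_card.mp h.hRp
  rw [ha] at hndvd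
  obtain ⟨j, -, rfl⟩ := (Nat.dvd_prime_pow hr.out).mp hndvd
  have hj : j ≠ 0 := fun h0 => hd1 (by rw [h0, pow_zero])
  refine stab_of_character R K h.hRK h.hsup hθ hd ?_ hr.out hrb (dvd_mul_of_dvd_right (dvd_pow_self r hj) _) hno
  set I := inertia R θ with hI
  have hle : R ≤ I := le_inertia R (IsIrr.isClassFunction hθ)
  haveI := Fintype.ofFinite I
  let iso := Subgroup.subgroupOfEquivOfLe hle
  obtain ⟨η, hη, hres⟩ := exists_extension_of_coprime (N := R.subgroupOf I)
    (CharInduce.IsIrr.comp hθ iso.toMonoidHom iso.surjective)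
    (fun g n => congrFun ((mem_inertia R).mp g.2) (iso n)) (d := r ^ j)
    (show θ (iso 1) = _ by rw [map_one, hd]) (by
      refine Nat.Coprime.coprime_dvd_left ((Subgroup.relIndex_mul_index hle ▸ dvd_mul_right _ _ : R.relIndex I ∣ R.index)) ?_
      refine Nat.Coprime.mul_right ?_ ?_
      · obtain ⟨m, ρ, hρ, hρχ⟩ := (CharInduce.IsIrr.comp hθ iso.toMonoidHom iso.surjective :
          IsIrrCharacter (R.subgroupOf I) (fun g => θ (iso g)))
        rw [detOrder_eq ρ hρχ]
        refine Nat.Coprime.coprime_dvd_right (orderOf_dvd_of_pow_eq_one (hom_pow_card (detHom ρ))) ?_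
        rw [Nat.card_congr iso.toEquiv, ha]
        exact Nat.Coprime.pow_right a ((hr.out.coprime_iff_not_dvd.mpr h.hRi).symm)
      · exact Nat.Coprime.pow_right j ((hr.out.coprime_iff_not_dvd.mpr h.hRi).symm))
  exact ⟨η, hη, fun x hx => hres ⟨⟨(x : G), hx⟩, x.2⟩⟩

/-- Above a non-trivial character of `M` there is a non-linear character of `R` with the same stabiliser. -/
theorem NormalCase.exists_above [Group.IsSolvable G] [hr : Fact r.Prime] (h : NormalCase r s t R M K)
    (v : Lin M) (hv : v ≠ 0) :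
    ∃ (θ : R → ℂ) (d : ℕ), IsIrrCharacter R θ ∧ θ 1 = d ∧ d ≠ 1 ∧
      stabilizer K v = (inertia R θ).subgroupOf K := by
  classical
  haveI := Fintype.ofFinite R
  haveI := Fintype.ofFinite (M.subgroupOf R)
  let S := stabilizer K v
  haveI := Fintype.ofFinite S
  let φ : S →* MulAut R := (MulAut.conjNormal (H := R)).comp (K.subtype.comp S.subtype)
  let iso := Subgroup.subgroupOfEquivOfLe h.hMR
  have hθ0 : IsIrrCharacter (M.subgroupOf R) (fun n => v.fn (iso n)) :=
    CharInduce.IsIrr.comp (Lin.fn_isIrr v) iso.toMonoidHom iso.surjective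
  have hφN : ∀ (k : S), ∀ n ∈ M.subgroupOf R, φ k n ∈ M.subgroupOf R := fun k n hn => by
    rw [Subgroup.mem_subgroupOf] at hn ⊢
    exact (inferInstance : M.Normal).conj_mem _ hn _
  have hab : ∀ a b : R, (b * a)⁻¹ * (a * b) ∈ M.subgroupOf R := fun a b => by
    rw [Subgroup.mem_subgroupOf, show (((b * a)⁻¹ * (a * b) : R) : G) = ⁅(a : G)⁻¹, (b : G)⁻¹⁆ by
      push_cast; rw [commutatorElement_def]; group, ← h.hRM]
    exact Subgroup.commutator_mem_commutator (R.inv_mem a.2) (R.inv_mem b.2)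
  have hcop : (M.subgroupOf R).index.Coprime (Nat.card S) := by
    obtain ⟨a, ha⟩ := IsPGroup.iff_card.mp h.hRp
    refine Nat.Coprime.coprime_dvd_left (Subgroup.index_dvd_card _) ?_
    rw [ha]
    refine Nat.Coprime.pow_left a (hr.out.coprime_iff_not_dvd.mpr fun hd => h.hRi ?_)
    rw [h.isComplement.symm.index_eq_card]
    exact hd.trans (Subgroup.card_subgroup_dvd_card S)
  obtain ⟨χ, hover, hinv⟩ := H84.exists_invariant_above_abelian φ hφN hab hcop hθ0 (fun k n => by
    have hk : ((k : K) : G) • v = v := k.2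
    have hk' : (((k : K) : G))⁻¹ • v = v := inv_smul_eq_iff.mpr hk.symm
    show (v.hom _ : ℂ) = (v.hom _ : ℂ)
    conv_rhs => rw [← hk', Lin.hom_smul]
    congr 2
    exact Subtype.ext (by simp [φ, iso, MulAut.conjNormal_apply]))
  have hres : ∀ n : M.subgroupOf R, (χ : R → ℂ) n = (χ : R → ℂ) 1 * v.fn (iso n) := by
    intro n
    have himg : Finset.univ.image (conjFun (M.subgroupOf R) (fun n => v.fn (iso n))) = {fun n => v.fn (iso n)} := by
      refine Finset.eq_singleton_iff_unique_mem.mpr ⟨Finset.mem_image.mpr ⟨1, Finset.mem_univ _, conjFun_one _ _⟩, ?_⟩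
      intro f hf
      obtain ⟨x, -, rfl⟩ := Finset.mem_image.mp hf
      funext m
      show v.fn (iso _) = v.fn (iso m)
      refine congrArg v.fn (Subtype.ext ?_)
      show (x : G) * ((m : R) : G) * (x : G)⁻¹ = ((m : R) : G)
      rw [Subgroup.mem_centralizer_iff.mp (h.hMc (Subgroup.mem_subgroupOf.mp m.2)) x x.2, mul_inv_cancel_right]
    have hc := clifford (M.subgroupOf R) χ.2 hθ0 hover
    rw [himg, Finset.sum_singleton] at hc
    have h1 := congrFun hc 1
    have h2 := congrFun hc n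
    simp only [Pi.smul_apply, smul_eq_mul, OneMemClass.coe_one] at h1 h2
    rw [show v.fn (iso 1) = 1 by rw [map_one, Lin.fn_one, Nat.cast_one], mul_one] at h1
    rw [h2, h1]
  refine ⟨χ, charDegree (χ : R → ℂ), χ.2, apply_one χ, fun h1 => hv ?_, ?_⟩
  · have hone : (χ : R → ℂ) 1 = 1 := by rw [apply_one, h1, Nat.cast_one]
    obtain ⟨l, hl⟩ := IsChar.exists_hom_of_degree_one (IsIrr.isCharacter χ.2) hone
    have hker : M ≤ l.ker.map R.subtype := by
      rw [← h.hRM, Subgroup.commutator_le]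
      intro a ha b hb
      refine ⟨⁅(⟨a, ha⟩ : R), ⟨b, hb⟩⁆, MonoidHom.mem_ker.mpr ?_, rfl⟩
      rw [map_commutatorElement, commutatorElement_eq_one_iff_mul_comm, mul_comm]
    refine Lin.ext fun m => Units.ext ?_
    obtain ⟨x, hx, hxm⟩ := hker m.2
    have h2 := hres ⟨x, Subgroup.mem_subgroupOf.mpr (by rw [show (x : G) = m from hxm]; exact m.2)⟩
    rw [hone, one_mul, hl, MonoidHom.mem_ker.mp hx] at h2
    rw [Lin.hom_zero]
    have e : m = iso ⟨x, Subgroup.mem_subgroupOf.mpr (by rw [show (x : G) = m from hxm]; exact m.2)⟩ :=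
      Subtype.ext hxm.symm
    rw [e]
    exact h2.symm
  · ext k
    constructor
    · intro hk
      show ((k : K) : G) ∈ inertia R (χ : R → ℂ)
      rw [mem_inertia]
      funext x
      exact hinv ⟨k, hk⟩ x
    · intro hk
      have hk' : (k : G) ∈ inertia R (χ : R → ℂ) := hk
      show (k : G) • v = v
      rw [← mem_stabilizer_iff, ← inv_mem_iff, mem_stabilizer_iff]
      refine Lin.ext fun m => Units.ext ?_
      rw [Lin.hom_smul]
      have hm1 : (k : G) * m * (k : G)⁻¹ ∈ M := (inferInstance : M.Normal).conj_mem _ m.2 _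
      have h1 := congrFun ((mem_inertia R).mp hk') ⟨m, h.hMR m.2⟩
      simp only [conjFun] at h1
      rw [show (χ : R → ℂ) ⟨(m : G), _⟩ = _ from hres ⟨⟨m, h.hMR m.2⟩, m.2⟩,
        show (χ : R → ℂ) ⟨(k : G) * m * (k : G)⁻¹, _⟩ = _ from hres ⟨⟨_, h.hMR hm1⟩, hm1⟩] at h1
      have h2 := mul_left_cancel₀ (IsIrr.one_ne_zero χ.2) h1
      simp only [inv_inv]
      exact h2

theorem NormalCase.uniqueFix_M [Group.IsSolvable G] [Fact r.Prime] (h : NormalCase r s t R M K) {b : ℕ}
    [Fact b.Prime] (hrb : r ≠ b) (hno : ¬ Deg G (r * b)) : UniqueFix (Lin M) b K := by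
  refine uniqueFix_of_stabilizer fun v hv => ?_
  obtain ⟨θ, d, hθ, hd, hd1, hst⟩ := h.exists_above v hv
  rw [hst]
  exact h.stab_nonlinear hθ hd hd1 hrb hno

end Cfsg.Agent.H44.Palfy
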